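import Mathlib
import Cfsg.Prelude.Def_Involutions
import Cfsg.Agent.LieRecognition.RankOneAbstract
import Cfsg.Agent.LieRecognition.SzMatrix
set_option linter.all false

-- part: H896/Binary
section
/-!
# Binary actions on cosets (helper896)

`Binary H` : the action of `G` on `G ⧸ H` is binary. The fixity lemma for commuting involutions, the
strongly embedded subgroup of a simple group with one class of involutions, the obstructions `ternary`,
`four`, `three`, and a criterion for TI subgroups.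
-/

set_option autoImplicit false

namespace Cfsg.Agent.H896

open MulAction

variable {G : Type*} [Group G] {H : Subgroup G}

/-- the action of `G` on the cosets of `H` is binary -/
def Binary (H : Subgroup G) : Prop :=
  ∀ (n : ℕ) (I J : Fin n → G ⧸ H), 2 ≤ n →
    (∀ i j : Fin n, i ≠ j → ∃ g : G, g • I i = J i ∧ g • I j = J j) → ∃ g : G, ∀ i, g • I i = J i

theorem Binary.gen (hb : Binary H) {ι : Type*} [Finite ι] (I J : ι → G ⧸ H)
    (h : ∀ i j : ι, ∃ g : G, g • I i = J i ∧ g • I j = J j) : ∃ g : G, ∀ i, g • I i = J i := by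
  classical
  obtain ⟨n, ⟨e⟩⟩ := Finite.exists_equiv_fin ι
  by_cases hn : 2 ≤ n
  · obtain ⟨g, hg⟩ := hb n (I ∘ e.symm) (J ∘ e.symm) hn (fun i j _ => h _ _)
    refine ⟨g, fun i => ?_⟩
    have := hg (e i)
    simpa using this
  · by_cases hne : Nonempty ι
    · obtain ⟨i⟩ := hne
      obtain ⟨g, hg, -⟩ := h i i
      refine ⟨g, fun j => ?_⟩
      have : j = i := by
        apply e.injective
        apply Fin.ext
        have h1 := (e j).2
        have h2 := (e i).2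
        omega
      rw [this, hg]
    · exact ⟨1, fun i => (hne ⟨i⟩).elim⟩

theorem smul_mk_eq (g a b : G) :
    g • (QuotientGroup.mk a : G ⧸ H) = QuotientGroup.mk b ↔ b⁻¹ * (g * a) ∈ H := by
  rw [eq_comm]
  exact QuotientGroup.eq

/-- binary actions in terms of representatives -/
theorem Binary.rep (hb : Binary H) {ι : Type*} [Finite ι] (a b : ι → G)
    (h : ∀ i j : ι, ∃ g : G, (b i)⁻¹ * (g * a i) ∈ H ∧ (b j)⁻¹ * (g * a j) ∈ H) :
    ∃ g : G, ∀ i, (b i)⁻¹ * (g * a i) ∈ H := by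
  obtain ⟨g, hg⟩ := hb.gen (fun i => (QuotientGroup.mk (a i) : G ⧸ H))
    (fun i => QuotientGroup.mk (b i)) (fun i j => by
      obtain ⟨g, h1, h2⟩ := h i j
      exact ⟨g, (smul_mk_eq _ _ _).2 h1, (smul_mk_eq _ _ _).2 h2⟩)
  exact ⟨g, fun i => (smul_mk_eq _ _ _).1 (hg i)⟩

/-- **Ternary obstruction.** -/
theorem Binary.ternary (hb : Binary H) {x y g₂ g₃ : G} (hx : x ∈ H) (h2 : g₂⁻¹ * y * g₂ ∈ H)
    (h3 : g₃⁻¹ * (x⁻¹ * y) * g₃ ∈ H) :
    ∃ a ∈ H, g₂⁻¹ * a * g₂ ∈ H ∧ g₃⁻¹ * (x⁻¹ * a) * g₃ ∈ H := by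
  have key : ∀ i j : Fin 3, ∃ g : G,
      ((![1, g₂, x * g₃] : Fin 3 → G) i)⁻¹ * (g * (![1, g₂, g₃] : Fin 3 → G) i) ∈ H ∧
      ((![1, g₂, x * g₃] : Fin 3 → G) j)⁻¹ * (g * (![1, g₂, g₃] : Fin 3 → G) j) ∈ H := by
    have a0 : ∀ g : G, g ∈ H → (1 : G)⁻¹ * (g * 1) ∈ H := fun g hg => by simpa using hg
    have a1 : (g₂)⁻¹ * (1 * g₂) ∈ H := by simp
    have a2 : (x * g₃)⁻¹ * (x * g₃) ∈ H := by simp
    have b1 : (g₂)⁻¹ * (y * g₂) ∈ H := by simpa [mul_assoc] using h2
    have b2 : (x * g₃)⁻¹ * (y * g₃) ∈ H := by simpa [mul_assoc] using h3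
    intro i j
    fin_cases i <;> fin_cases j
    · exact ⟨1, a0 1 H.one_mem, a0 1 H.one_mem⟩
    · exact ⟨1, a0 1 H.one_mem, a1⟩
    · exact ⟨x, a0 x hx, a2⟩
    · exact ⟨1, a1, a0 1 H.one_mem⟩
    · exact ⟨1, a1, a1⟩
    · exact ⟨y, b1, b2⟩
    · exact ⟨x, a2, a0 x hx⟩
    · exact ⟨y, b2, b1⟩
    · exact ⟨x, a2, a2⟩
  obtain ⟨a, ha⟩ := hb.rep _ _ key
  refine ⟨a, ?_, ?_, ?_⟩
  · simpa using ha 0
  · simpa [mul_assoc] using ha 1
  · have := ha 2
    simpa [mul_assoc] using this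

/-- **Three point obstruction** -/
theorem Binary.three (hb : Binary H) {k v : G} (hk : k ∈ H)
    (hc : (k * v * k⁻¹)⁻¹ * v * (k * v * k⁻¹) * v⁻¹ ∈ H) :
    ∃ g ∈ H, (v * (k * v * k⁻¹))⁻¹ * g * (v * (k * v * k⁻¹)) ∈ H ∧ (k * v * k⁻¹)⁻¹ * g * v ∈ H := by
  set v' := k * v * k⁻¹ with hv'
  set v₁ := v * v' with hv₁
  have key : ∀ i j : Fin 3, ∃ g : G,
      ((![1, v₁, v'] : Fin 3 → G) i)⁻¹ * (g * (![1, v₁, v] : Fin 3 → G) i) ∈ H ∧
      ((![1, v₁, v'] : Fin 3 → G) j)⁻¹ * (g * (![1, v₁, v] : Fin 3 → G) j) ∈ H := by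
    have a0 : ∀ g : G, g ∈ H → (1 : G)⁻¹ * (g * 1) ∈ H := fun g hg => by simpa using hg
    have a1 : (v₁)⁻¹ * (1 * v₁) ∈ H := by simp
    have a2 : (v')⁻¹ * (k * v) ∈ H := by
      rw [hv']
      have : (k * v * k⁻¹)⁻¹ * (k * v) = k := by group
      rw [this]; exact hk
    have b1 : (v₁)⁻¹ * ((v₁ * k⁻¹ * v₁⁻¹) * v₁) ∈ H := by
      have : (v₁)⁻¹ * ((v₁ * k⁻¹ * v₁⁻¹) * v₁) = k⁻¹ := by group
      rw [this]; exact H.inv_mem hk
    have b2 : (v')⁻¹ * ((v₁ * k⁻¹ * v₁⁻¹) * v) ∈ H := by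
      have : (v')⁻¹ * ((v₁ * k⁻¹ * v₁⁻¹) * v) = ((v')⁻¹ * v * v' * v⁻¹) * k⁻¹ := by
        rw [hv₁, hv']; group
      rw [this]; exact H.mul_mem hc (H.inv_mem hk)
    intro i j
    fin_cases i <;> fin_cases j
    · exact ⟨1, a0 1 H.one_mem, a0 1 H.one_mem⟩
    · exact ⟨1, a0 1 H.one_mem, a1⟩
    · exact ⟨k, a0 k hk, a2⟩
    · exact ⟨1, a1, a0 1 H.one_mem⟩
    · exact ⟨1, a1, a1⟩
    · exact ⟨_, b1, b2⟩
    · exact ⟨k, a2, a0 k hk⟩
    · exact ⟨_, b2, b1⟩
    · exact ⟨_, b2, b2⟩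
  obtain ⟨a, ha⟩ := hb.rep _ _ key
  refine ⟨a, ?_, ?_, ?_⟩
  · simpa using ha 0
  · have := ha 1
    simpa [mul_assoc] using this
  · have := ha 2
    simpa [mul_assoc] using this

/-- **Four point obstruction** -/
theorem Binary.four (hb : Binary H) {k v w : G} (hkw : w⁻¹ * k * w ∈ H) (hv : v ∈ H) (hk : k ∈ H)
    (hc : (k * v * k⁻¹) * v = v * (k * v * k⁻¹)) :
    ∃ g ∈ H, w⁻¹ * g * w ∈ H ∧
      (v * (k * v * k⁻¹) * w)⁻¹ * g * (v * (k * v * k⁻¹) * w) ∈ H ∧
      (k * v * k⁻¹ * w)⁻¹ * g * (v * w) ∈ H := by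
  set v' := k * v * k⁻¹ with hv'
  set v₁ := v * v' with hv₁
  have hv'H : v' ∈ H := H.mul_mem (H.mul_mem hk hv) (H.inv_mem hk)
  have hkw' : w⁻¹ * k⁻¹ * w ∈ H := by
    have := H.inv_mem hkw
    simpa [mul_assoc] using this
  have key : ∀ i j : Fin 4, ∃ g : G,
      ((![1, w, v₁ * w, v' * w] : Fin 4 → G) i)⁻¹ * (g * (![1, w, v₁ * w, v * w] : Fin 4 → G) i) ∈ H ∧
      ((![1, w, v₁ * w, v' * w] : Fin 4 → G) j)⁻¹ * (g * (![1, w, v₁ * w, v * w] : Fin 4 → G) j) ∈ H := by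
    have a0 : ∀ g : G, g ∈ H → (1 : G)⁻¹ * (g * 1) ∈ H := fun g hg => by simpa using hg
    have a1 : (w)⁻¹ * (1 * w) ∈ H := by simp
    have a2 : (v₁ * w)⁻¹ * (1 * (v₁ * w)) ∈ H := by simp
    have a3 : (v' * w)⁻¹ * ((v' * v⁻¹) * (v * w)) ∈ H := by
      have : (v' * w)⁻¹ * ((v' * v⁻¹) * (v * w)) = 1 := by group
      rw [this]; exact H.one_mem
    have c0 : v' * v⁻¹ ∈ H := H.mul_mem hv'H (H.inv_mem hv)
    have b1 : (w)⁻¹ * (k * w) ∈ H := by simpa [mul_assoc] using hkw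
    have b3 : (v' * w)⁻¹ * (k * (v * w)) ∈ H := by
      have : (v' * w)⁻¹ * (k * (v * w)) = w⁻¹ * k * w := by rw [hv']; group
      rw [this]; exact hkw
    have d2 : (v₁ * w)⁻¹ * ((v₁ * k⁻¹ * v₁⁻¹) * (v₁ * w)) ∈ H := by
      have : (v₁ * w)⁻¹ * ((v₁ * k⁻¹ * v₁⁻¹) * (v₁ * w)) = w⁻¹ * k⁻¹ * w := by group
      rw [this]; exact hkw'
    have d3 : (v' * w)⁻¹ * ((v₁ * k⁻¹ * v₁⁻¹) * (v * w)) ∈ H := by
      have e1 : v₁ = v' * v := by rw [hv₁, hc]
      have e2 : (v' * w)⁻¹ * ((v₁ * k⁻¹ * v₁⁻¹) * (v * w)) =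
          w⁻¹ * (v'⁻¹ * v₁) * k⁻¹ * (v₁⁻¹ * v) * w := by group
      have e3 : v'⁻¹ * v₁ = v := by rw [e1]; group
      have e4 : v₁⁻¹ * v = v'⁻¹ := by rw [hv₁]; group
      have e5 : w⁻¹ * v * k⁻¹ * v'⁻¹ * w = w⁻¹ * k⁻¹ * w := by rw [hv']; group
      rw [e2, e3, e4, e5]; exact hkw'
    intro i j
    fin_cases i <;> fin_cases j
    · exact ⟨1, a0 1 H.one_mem, a0 1 H.one_mem⟩
    · exact ⟨1, a0 1 H.one_mem, a1⟩
    · exact ⟨1, a0 1 H.one_mem, a2⟩
    · exact ⟨_, a0 _ c0, a3⟩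
    · exact ⟨1, a1, a0 1 H.one_mem⟩
    · exact ⟨1, a1, a1⟩
    · exact ⟨1, a1, a2⟩
    · exact ⟨k, b1, b3⟩
    · exact ⟨1, a2, a0 1 H.one_mem⟩
    · exact ⟨1, a2, a1⟩
    · exact ⟨1, a2, a2⟩
    · exact ⟨_, d2, d3⟩
    · exact ⟨_, a3, a0 _ c0⟩
    · exact ⟨k, b3, b1⟩
    · exact ⟨_, d3, d2⟩
    · exact ⟨k, b3, b3⟩
  obtain ⟨a, ha⟩ := hb.rep _ _ key
  refine ⟨a, ?_, ?_, ?_, ?_⟩
  · simpa using ha 0
  · have := ha 1
    simpa [mul_assoc] using this
  · have := ha 2
    simpa [mul_assoc] using this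
  · have := ha 3
    simpa [mul_assoc] using this

/-- the trivial subgroup gives a binary action -/
theorem binary_bot : Binary (⊥ : Subgroup G) := by
  intro n I J hn h
  have h1 : ∀ (g g' : G) (x : G ⧸ (⊥ : Subgroup G)), g • x = g' • x → g = g' := by
    intro g g' x hx
    induction x using QuotientGroup.induction_on with
    | H a =>
      have h2 : (QuotientGroup.mk (g * a) : G ⧸ (⊥ : Subgroup G)) = QuotientGroup.mk (g' * a) := hx
      rw [QuotientGroup.eq, Subgroup.mem_bot, inv_mul_eq_one] at h2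
      exact mul_right_cancel h2
  have i0 : Fin n := ⟨0, by omega⟩
  have i1 : Fin n := ⟨1, by omega⟩
  have h01 : (⟨0, by omega⟩ : Fin n) ≠ ⟨1, by omega⟩ := by
    intro h; simp at h
  obtain ⟨g, hg, -⟩ := h ⟨0, by omega⟩ ⟨1, by omega⟩ h01
  refine ⟨g, fun i => ?_⟩
  by_cases hi : i = ⟨0, by omega⟩
  · rw [hi, hg]
  · obtain ⟨g', h3, h4⟩ := h i ⟨0, by omega⟩ hi
    rw [h1 g g' _ (hg.trans h4.symm), h3]

/-- **TI criterion** -/
theorem binary_of_ti (hTI : ∀ g x : G, x ∈ H → x ≠ 1 → g⁻¹ * x * g ∈ H → ∀ y ∈ H, g⁻¹ * y * g ∈ H)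
    (h3 : ∀ a b c p q r : G, a⁻¹ * p * a ∈ H → b⁻¹ * q * b ∈ H → c⁻¹ * r * c ∈ H → p ≠ 1 → q ≠ 1 →
      r ≠ 1 → q = p * r → b⁻¹ * p * b ∈ H) : Binary H := by
  -- stabilizers
  have hst : ∀ g a : G, g • (QuotientGroup.mk a : G ⧸ H) = QuotientGroup.mk a ↔ a⁻¹ * g * a ∈ H := by
    intro g a
    rw [smul_mk_eq, mul_assoc]
  have hTI2 : ∀ a b p : G, p ≠ 1 → a⁻¹ * p * a ∈ H → b⁻¹ * p * b ∈ H → ∀ y, a⁻¹ * y * a ∈ H →
      b⁻¹ * y * b ∈ H := by
    intro a b p hp ha hb y hy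
    have h1 := hTI (a⁻¹ * b) (a⁻¹ * p * a) ha (by
      intro h
      apply hp
      have : p = a * (a⁻¹ * p * a) * a⁻¹ := by group
      rw [this, h]; group) (by
        have : (a⁻¹ * b)⁻¹ * (a⁻¹ * p * a) * (a⁻¹ * b) = b⁻¹ * p * b := by group
        rw [this]; exact hb) _ hy
    have : (a⁻¹ * b)⁻¹ * (a⁻¹ * y * a) * (a⁻¹ * b) = b⁻¹ * y * b := by group
    rwa [this] at h1
  intro n I J hn h
  choose a ha using fun i => QuotientGroup.mk_surjective (I i)
  choose b hbb using fun i => QuotientGroup.mk_surjective (J i)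
  by_cases hall : ∀ i j : Fin n, ∀ p, (a i)⁻¹ * p * a i ∈ H → (a j)⁻¹ * p * a j ∈ H
  · -- all stabilizers equal
    have h01 : (⟨0, by omega⟩ : Fin n) ≠ ⟨1, by omega⟩ := by
      intro h; simp at h
    obtain ⟨g, hg, -⟩ := h ⟨0, by omega⟩ ⟨1, by omega⟩ h01
    refine ⟨g, fun i => ?_⟩
    by_cases hi : i = ⟨0, by omega⟩
    · rw [hi, hg]
    · obtain ⟨g', h4, h5⟩ := h i ⟨0, by omega⟩ hi
      have h6 : (g⁻¹ * g') • I ⟨0, by omega⟩ = I ⟨0, by omega⟩ := by
        rw [mul_smul, h5, ← hg, inv_smul_smul]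
      rw [← ha, hst] at h6
      have h7 := hall _ i _ h6
      rw [← hst, ha, mul_smul, inv_smul_eq_iff, h4] at h7
      exact h7.symm
  · push Not at hall
    obtain ⟨i, j, p₀, hp₀, hp₀'⟩ := hall
    have hij : i ≠ j := by
      rintro rfl
      exact hp₀' hp₀
    have htriv : ∀ p, (a i)⁻¹ * p * a i ∈ H → (a j)⁻¹ * p * a j ∈ H → p = 1 := by
      intro p h1 h2
      by_contra hp
      exact hp₀' (hTI2 _ _ p hp h1 h2 _ hp₀)
    obtain ⟨g, hgi, hgj⟩ := h i j hij
    refine ⟨g, fun k => ?_⟩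
    by_cases hki : k = i
    · rw [hki, hgi]
    by_cases hkj : k = j
    · rw [hkj, hgj]
    obtain ⟨g₁, h11, h12⟩ := h k i hki
    obtain ⟨g₂, h21, h22⟩ := h k j hkj
    set p := g⁻¹ * g₁ with hp
    set q := g⁻¹ * g₂ with hq
    have hpi : (a i)⁻¹ * p * a i ∈ H := by
      rw [← hst, ha, hp, mul_smul, h12, ← hgi, inv_smul_smul]
    have hqj : (a j)⁻¹ * q * a j ∈ H := by
      rw [← hst, ha, hq, mul_smul, h22, ← hgj, inv_smul_smul]
    have hr : (a k)⁻¹ * (p⁻¹ * q) * a k ∈ H := by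
      rw [← hst, ha, hp, hq]
      have : (g⁻¹ * g₁)⁻¹ * (g⁻¹ * g₂) = g₁⁻¹ * g₂ := by group
      rw [this, mul_smul, h21, ← h11, inv_smul_smul]
    by_cases hp1 : p = 1
    · have : g₁ = g := by
        rw [hp, inv_mul_eq_one] at hp1
        exact hp1.symm
      rw [← this, h11]
    by_cases hq1 : q = 1
    · have : g₂ = g := by
        rw [hq, inv_mul_eq_one] at hq1
        exact hq1.symm
      rw [← this, h21]
    by_cases hr1 : p⁻¹ * q = 1
    · have hpq : p = q := inv_mul_eq_one.1 hr1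
      exact absurd (htriv p hpi (by rw [hpq]; exact hqj)) hp1
    have := h3 (a i) (a j) (a k) p q (p⁻¹ * q) hpi hqj hr hp1 hq1 hr1 (by group)
    exact absurd (htriv p hpi this) hp1

/-! ### Commuting involutions -/

section Fix

variable [Finite G]

omit [Finite G] in
theorem ncard_fixedBy_conj (g s : G) :
    (fixedBy (G ⧸ H) (g * s * g⁻¹)).ncard = (fixedBy (G ⧸ H) s).ncard := by
  have : fixedBy (G ⧸ H) (g * s * g⁻¹) = (fun x => g • x) '' fixedBy (G ⧸ H) s := by
    ext x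
    constructor
    · intro hx
      refine ⟨g⁻¹ • x, ?_, smul_inv_smul g x⟩
      rw [mem_fixedBy] at hx ⊢
      rw [← mul_smul]
      have e : s * g⁻¹ = g⁻¹ * (g * s * g⁻¹) := by group
      rw [e, mul_smul, hx]
    · rintro ⟨y, hy, rfl⟩
      rw [mem_fixedBy] at hy ⊢
      show (g * s * g⁻¹) • g • y = g • y
      rw [← mul_smul]
      have e : g * s * g⁻¹ * g = g * s := by group
      rw [e, mul_smul, hy]
  rw [this]
  exact Set.ncard_image_of_injective _ (MulAction.injective g)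

/-- commuting involutions have the same fixed points in a binary action (one class of involutions) -/
theorem Binary.fix_le (hb : Binary H) (hone : ∀ s t : G, orderOf s = 2 → orderOf t = 2 → IsConj s t)
    {s t : G} (hs : orderOf s = 2) (ht : orderOf t = 2) (hst : s * t = t * s) {x : G ⧸ H}
    (hx : s • x = x) : t • x = x := by
  classical
  by_contra hxt
  have hss : s * s = 1 := by rw [← pow_two, ← hs, pow_orderOf_eq_one]
  have htt : t * t = 1 := by rw [← pow_two, ← ht, pow_orderOf_eq_one]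
  have hne : s * t ≠ 1 := by
    intro h
    have : s = t := by
      calc s = s * (t * t) := by rw [htt, mul_one]
        _ = (s * t) * t := by rw [mul_assoc]
        _ = t := by rw [h, one_mul]
    rw [this] at hx
    exact hxt hx
  have hst2 : orderOf (s * t) = 2 := by
    apply orderOf_eq_prime _ hne
    rw [pow_two]
    calc s * t * (s * t) = s * t * (t * s) := by rw [hst]
      _ = s * (t * t) * s := by group
      _ = 1 := by rw [htt, mul_one, hss]
  have hcard : ∀ u : G, orderOf u = 2 → (fixedBy (G ⧸ H) u).ncard = (fixedBy (G ⧸ H) s).ncard := by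
    intro u hu
    obtain ⟨g, hg⟩ := isConj_iff.1 (hone s u hs hu)
    rw [← hg, ncard_fixedBy_conj]
  have hfin : ∀ u : G, (fixedBy (G ⧸ H) u).Finite := fun u => Set.toFinite _
  -- the permutation
  set Y : Set (G ⧸ H) := {y | s • y = y ∨ t • y = y ∨ (s * t) • y = y} with hY
  obtain ⟨g, hg⟩ := hb.gen (ι := Y) (fun y => (y : G ⧸ H))
    (fun y => if s • (y : G ⧸ H) = y then t • (y : G ⧸ H) else y) (by
      rintro ⟨y, hy⟩ ⟨z, hz⟩
      show ∃ g : G, g • y = (if s • y = y then t • y else y) ∧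
        g • z = (if s • z = z then t • z else z)
      by_cases h1 : s • y = y <;> by_cases h2 : s • z = z
      · exact ⟨t, by rw [if_pos h1], by rw [if_pos h2]⟩
      · rcases hz with hz | hz | hz
        · exact absurd hz h2
        · exact ⟨t, by rw [if_pos h1], by rw [if_neg h2, hz]⟩
        · exact ⟨s * t, by rw [if_pos h1, hst, mul_smul, h1], by rw [if_neg h2, hz]⟩
      · rcases hy with hy | hy | hy
        · exact absurd hy h1
        · exact ⟨t, by rw [if_neg h1, hy], by rw [if_pos h2]⟩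
        · exact ⟨s * t, by rw [if_neg h1, hy], by rw [if_pos h2, hst, mul_smul, h2]⟩
      · exact ⟨1, by rw [if_neg h1, one_smul], by rw [if_neg h2, one_smul]⟩)
  have hg : ∀ y ∈ Y, g • y = if s • y = y then t • y else y := fun y hy => hg ⟨y, hy⟩
  have hgx : g • x = t • x := by rw [hg x (Or.inl hx), if_pos hx]
  have hstx : s • (t • x) = t • x := by rw [← mul_smul, hst, mul_smul, hx]
  have hgtx : g • (t • x) = x := by
    rw [hg _ (Or.inl hstx), if_pos hstx, ← mul_smul, htt, one_smul]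
  have hg2 : ∀ k : ℕ, (g ^ (2 * k)) • x = x := by
    intro k
    induction k with
    | zero => simp
    | succ k ih =>
      have : g ^ (2 * (k + 1)) = g ^ (2 * k) * (g * g) := by
        rw [← pow_two, ← pow_add]; ring_nf
      rw [this, mul_smul, mul_smul, hgx, hgtx, ih]
  have heven : Even (orderOf g) := by
    by_contra hodd
    rw [Nat.not_even_iff_odd] at hodd
    obtain ⟨k, hk⟩ := hodd
    have h1 : g ^ (2 * k + 1) • x = x := by rw [← hk, pow_orderOf_eq_one, one_smul]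
    have h2 : g ^ (2 * k + 1) • x = t • x := by
      rw [pow_succ', mul_smul, hg2, hgx]
    exact hxt (h2.symm.trans h1)
  obtain ⟨m, hm⟩ := heven
  have hpos : 0 < orderOf g := orderOf_pos g
  set u := g ^ m with hu
  have hu2 : orderOf u = 2 := by
    rw [hu, orderOf_pow, hm]
    have : m + m = m * 2 := by ring
    rw [this, Nat.gcd_eq_right (dvd_mul_right m 2), Nat.mul_div_cancel_left _ (by omega)]
  have hfu : ∀ y : G ⧸ H, g • y = y → u • y = y := by
    intro y hy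
    exact (stabilizer G y).pow_mem (show g ∈ stabilizer G y from hy) m
  have hsub : fixedBy (G ⧸ H) t ⊆ fixedBy (G ⧸ H) u := by
    intro y hy
    rw [mem_fixedBy] at hy ⊢
    apply hfu
    rw [hg y (Or.inr (Or.inl hy))]
    split_ifs
    · exact hy
    · rfl
  have hsub2 : fixedBy (G ⧸ H) (s * t) ⊆ fixedBy (G ⧸ H) u := by
    intro y hy
    rw [mem_fixedBy] at hy ⊢
    apply hfu
    rw [hg y (Or.inr (Or.inr hy))]
    split_ifs with h1
    · rw [hst, mul_smul, h1] at hy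
      exact hy
    · rfl
  have he : fixedBy (G ⧸ H) t = fixedBy (G ⧸ H) u :=
    Set.eq_of_subset_of_ncard_le hsub (by rw [hcard u hu2, hcard t ht]) (hfin u)
  have hsub3 : fixedBy (G ⧸ H) (s * t) ⊆ fixedBy (G ⧸ H) s := by
    intro y hy
    have hy2 : y ∈ fixedBy (G ⧸ H) t := by rw [he]; exact hsub2 hy
    rw [mem_fixedBy] at hy hy2 ⊢
    rw [mul_smul, hy2] at hy
    exact hy
  have he2 : fixedBy (G ⧸ H) (s * t) = fixedBy (G ⧸ H) s :=
    Set.eq_of_subset_of_ncard_le hsub3 (by rw [hcard (s * t) hst2]) (hfin s)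
  have hx2 : x ∈ fixedBy (G ⧸ H) (s * t) := by rw [he2]; exact hx
  have hx3 : x ∈ fixedBy (G ⧸ H) t := by rw [he]; exact hsub2 hx2
  exact hxt hx3

/-- the version for conjugates of `H` -/
theorem Binary.conj_mem (hb : Binary H) (hone : ∀ s t : G, orderOf s = 2 → orderOf t = 2 → IsConj s t)
    {s t g : G} (hs : orderOf s = 2) (ht : orderOf t = 2) (hst : s * t = t * s)
    (h : g⁻¹ * s * g ∈ H) : g⁻¹ * t * g ∈ H := by
  have h1 := hb.fix_le hone hs ht hst (x := QuotientGroup.mk g) (by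
    rw [smul_mk_eq, ← mul_assoc]; exact h)
  rwa [smul_mk_eq, ← mul_assoc] at h1

end Fix

end Cfsg.Agent.H896
end

-- part: H896/Embed
section
/-!
# A strongly embedded subgroup from a binary action (helper896)
-/

set_option autoImplicit false

namespace Cfsg.Agent.H896

open MulAction

variable {G : Type*} [Group G] {H : Subgroup G}

/-- the setwise stabiliser of the fixed points of `t` -/
def fixStab (H : Subgroup G) (t : G) : Subgroup G where
  carrier := {g | ∀ x : G ⧸ H, t • x = x ↔ t • (g • x) = g • x}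
  mul_mem' := by
    intro g h hg hh x
    rw [hh x, hg (h • x), mul_smul]
  one_mem' := by
    intro x
    rw [one_smul]
  inv_mem' := by
    intro g hg x
    have := hg (g⁻¹ • x)
    rw [smul_inv_smul] at this
    exact this.symm

theorem mem_fixStab {t g : G} : g ∈ fixStab H t ↔ ∀ x : G ⧸ H, t • x = x ↔ t • (g • x) = g • x :=
  Iff.rfl

theorem mul_self_of_orderOf {t : G} (ht : orderOf t = 2) : t * t = 1 := by
  rw [← pow_two, ← ht, pow_orderOf_eq_one]

theorem ne_one_of_orderOf {t : G} (ht : orderOf t = 2) : t ≠ 1 := by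
  rintro rfl
  rw [orderOf_one] at ht
  omega

theorem orderOf_eq_two {t : G} (h : t * t = 1) (h1 : t ≠ 1) : orderOf t = 2 :=
  orderOf_eq_prime (by rw [pow_two, h]) h1

/-- two involutions: either the order of their product is odd or some involution commutes with both -/
theorem exists_central [Finite G] {t u : G} (ht : orderOf t = 2) (hu : orderOf u = 2)
    (he : Even (orderOf (t * u))) : ∃ z : G, orderOf z = 2 ∧ z * t = t * z ∧ z * u = u * z := by
  have htt := mul_self_of_orderOf ht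
  have huu := mul_self_of_orderOf hu
  obtain ⟨m, hm⟩ := he
  have hpos := orderOf_pos (t * u)
  set z := (t * u) ^ m with hz
  have hz2 : orderOf z = 2 := by
    rw [hz, orderOf_pow, hm]
    have : m + m = m * 2 := by ring
    rw [this, Nat.gcd_eq_right (dvd_mul_right m 2), Nat.mul_div_cancel_left _ (by omega)]
  have hzz := mul_self_of_orderOf hz2
  have hzi : z⁻¹ = z := inv_eq_of_mul_eq_one_right hzz
  have hinv : (t * u)⁻¹ = u * t := by
    rw [inv_eq_iff_mul_eq_one]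
    calc t * u * (u * t) = t * (u * u) * t := by group
      _ = 1 := by rw [huu, mul_one, htt]
  have hti : t⁻¹ = t := inv_eq_of_mul_eq_one_right htt
  have hui : u⁻¹ = u := inv_eq_of_mul_eq_one_right huu
  have h1 : t * z * t⁻¹ = z := by
    rw [← conj_pow]
    have : t * (t * u) * t⁻¹ = (t * u)⁻¹ := by
      rw [hinv, hti]
      calc t * (t * u) * t = (t * t) * (u * t) := by group
        _ = u * t := by rw [htt, one_mul]
    rw [this, inv_pow, ← hz, hzi]
  have h2 : u * z * u⁻¹ = z := by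
    rw [← conj_pow]
    have : u * (t * u) * u⁻¹ = (t * u)⁻¹ := by
      rw [hinv]; group
    rw [this, inv_pow, ← hz, hzi]
  refine ⟨z, hz2, ?_, ?_⟩
  · have := mul_inv_eq_iff_eq_mul.1 h1
    exact this.symm
  · have := mul_inv_eq_iff_eq_mul.1 h2
    exact this.symm

variable [Finite G]

/-- an involution of the stabiliser has the same fixed points -/
theorem fix_eq (hb : Binary H) (hone : ∀ s t : G, orderOf s = 2 → orderOf t = 2 → IsConj s t)
    {t u : G} (ht : orderOf t = 2) (hu : orderOf u = 2) (hM : u ∈ fixStab H t) (x : G ⧸ H) :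
    u • x = x ↔ t • x = x := by
  by_cases he : Even (orderOf (t * u))
  · obtain ⟨z, hz, h1, h2⟩ := exists_central ht hu he
    constructor
    · intro h
      exact hb.fix_le hone hz ht h1 (hb.fix_le hone hu hz h2.symm h)
    · intro h
      exact hb.fix_le hone hz hu h2 (hb.fix_le hone ht hz h1.symm h)
  · rw [Nat.not_even_iff_odd] at he
    obtain ⟨k, hk⟩ := he
    have htt := mul_self_of_orderOf ht
    have huu := mul_self_of_orderOf hu
    have hfix : ∀ y : G ⧸ H, t • y = y → u • y = y := by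
      intro y hy
      have h2 : ((t * u) * (t * u)) • y = y := by
        have h3 := (hM y).1 hy
        calc ((t * u) * (t * u)) • y = t • u • t • u • y := by simp only [mul_smul]
          _ = t • u • u • y := by rw [h3]
          _ = y := by rw [← mul_smul u u, huu, one_smul, hy]
      have h4 : (t * u) * (t * u) ∈ stabilizer G y := h2
      have h5 : (t * u) ∈ stabilizer G y := by
        have h6 := (stabilizer G y).pow_mem h4 (k + 1)
        have h7 : ((t * u) * (t * u)) ^ (k + 1) = t * u := by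
          rw [← pow_two, ← pow_mul]
          have : 2 * (k + 1) = (2 * k + 1) + 1 := by ring
          rw [this, pow_succ, ← hk, pow_orderOf_eq_one, one_mul]
        rwa [h7] at h6
      have h6 : (t * u) • y = y := h5
      rw [mul_smul] at h6
      have h7 : t • t • u • y = t • y := by rw [h6]
      rw [← mul_smul, htt, one_smul, hy] at h7
      exact h7
    have hsub : fixedBy (G ⧸ H) t ⊆ fixedBy (G ⧸ H) u := fun y hy => hfix y hy
    have hcard : (fixedBy (G ⧸ H) u).ncard = (fixedBy (G ⧸ H) t).ncard := by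
      obtain ⟨g, hg⟩ := isConj_iff.1 (hone t u ht hu)
      rw [← hg, ncard_fixedBy_conj]
    have he := Set.eq_of_subset_of_ncard_le hsub (by rw [hcard]) (Set.toFinite _)
    have h8 : x ∈ fixedBy (G ⧸ H) t ↔ x ∈ fixedBy (G ⧸ H) u := by rw [he]
    exact h8.symm

/-- a simple group with one class of involutions and a binary action with point stabilisers of even
order has a strongly embedded subgroup -/
theorem exists_stronglyEmbedded [IsSimpleGroup G] (hb : Binary H)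
    (hone : ∀ s t : G, orderOf s = 2 → orderOf t = 2 → IsConj s t) (hH : H ≠ ⊤)
    (heven : Even (Nat.card H)) : ∃ M : Subgroup G, Cfsg.IsStronglyEmbedded M := by
  have : Fact (Nat.Prime 2) := ⟨Nat.prime_two⟩
  obtain ⟨t', ht'⟩ := exists_prime_orderOf_dvd_card' (G := H) 2 heven.two_dvd
  set t : G := (t' : G) with htdef
  have htH : t ∈ H := t'.2
  have ht : orderOf t = 2 := by rw [htdef, Subgroup.orderOf_coe, ht']
  have htt := mul_self_of_orderOf ht
  refine ⟨fixStab H t, ?_, ?_, ?_⟩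
  · intro htop
    have h1 : t • (QuotientGroup.mk 1 : G ⧸ H) = QuotientGroup.mk 1 := by
      rw [smul_mk_eq]; simpa using htH
    have hcore : t ∈ H.normalCore := by
      intro g
      have hg : g⁻¹ ∈ fixStab H t := by rw [htop]; trivial
      have h2 := (hg _).1 h1
      have h3 : t • (QuotientGroup.mk g⁻¹ : G ⧸ H) = QuotientGroup.mk g⁻¹ := by
        have : g⁻¹ • (QuotientGroup.mk 1 : G ⧸ H) = QuotientGroup.mk g⁻¹ := by
          show (QuotientGroup.mk (g⁻¹ * 1) : G ⧸ H) = _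
          rw [mul_one]
        rw [← this]; exact h2
      rw [smul_mk_eq] at h3
      simpa [mul_assoc] using h3
    rcases (inferInstance : H.normalCore.Normal).eq_bot_or_eq_top with h | h
    · rw [h, Subgroup.mem_bot] at hcore
      exact ne_one_of_orderOf ht hcore
    · apply hH
      rw [eq_top_iff, ← h]
      exact H.normalCore_le
  · have htM : t ∈ fixStab H t := by
      intro x
      constructor
      · intro h; rw [h]
        exact h
      · intro h
        exact smul_left_cancel t h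
    have : orderOf (⟨t, htM⟩ : fixStab H t) = 2 := by rw [← Subgroup.orderOf_coe]; exact ht
    rw [even_iff_two_dvd, ← this]
    exact orderOf_dvd_natCard _
  · intro g hg
    by_contra hne
    rw [Nat.not_odd_iff_even] at hne
    obtain ⟨u', hu'⟩ := exists_prime_orderOf_dvd_card'
      (G := ↥(fixStab H t ⊓ (fixStab H t).map (MulAut.conj g).toMonoidHom)) 2 hne.two_dvd
    obtain ⟨u, hu1, hu2⟩ := u'
    have hu : orderOf u = 2 := by
      rw [← hu', ← Subgroup.orderOf_coe]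
    obtain ⟨v, hv, hvu⟩ := hu2
    have hvu' : g * v * g⁻¹ = u := hvu
    have hv2 : orderOf v = 2 := by
      apply orderOf_eq_two
      · have h1 : u * u = 1 := mul_self_of_orderOf hu
        rw [← hvu'] at h1
        have h2 : g * (v * v) * g⁻¹ = 1 := by
          rw [← h1]; group
        have h3 : v * v = g⁻¹ * (g * (v * v) * g⁻¹) * g := by group
        rw [h3, h2]; group
      · rintro rfl
        apply ne_one_of_orderOf hu
        rw [← hvu']; group
    apply hg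
    intro x
    have h1 := fix_eq hb hone ht hv2 hv x
    have h2 := fix_eq hb hone ht hu hu1 (g • x)
    rw [← h1, ← h2, ← hvu', mul_smul, mul_smul, inv_smul_smul]
    constructor
    · intro h; rw [h]
    · intro h; exact smul_left_cancel g h

end Cfsg.Agent.H896
end

-- part: H896/Frame
section
/-!
# Binary actions of rank one groups in characteristic two: common part (helper896)

`Frame B U Z w` : rank one Bruhat data `B, U, w` with the subgroup `Z` of `U` of all elements of square one.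
-/

set_option autoImplicit false

namespace Cfsg.Agent.H896

open MulAction Cfsg.Agent.LieRecognition.RankOneAbstract

section Transport

variable {G G' : Type*} [Group G] [Group G']

theorem binary_iff_rep {H : Subgroup G} : Binary H ↔ ∀ (n : ℕ) (a b : Fin n → G), 2 ≤ n →
    (∀ i j, i ≠ j → ∃ g : G, (b i)⁻¹ * (g * a i) ∈ H ∧ (b j)⁻¹ * (g * a j) ∈ H) →
    ∃ g : G, ∀ i, (b i)⁻¹ * (g * a i) ∈ H := by
  constructor
  · intro hb n a b hn h
    obtain ⟨g, hg⟩ := hb n (fun i => QuotientGroup.mk (a i)) (fun i => QuotientGroup.mk (b i)) hn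
      (fun i j hij => by
        obtain ⟨g, h1, h2⟩ := h i j hij
        exact ⟨g, (smul_mk_eq _ _ _).2 h1, (smul_mk_eq _ _ _).2 h2⟩)
    exact ⟨g, fun i => (smul_mk_eq _ _ _).1 (hg i)⟩
  · intro h n I J hn hIJ
    choose a ha using fun i => QuotientGroup.mk_surjective (I i)
    choose b hb using fun i => QuotientGroup.mk_surjective (J i)
    obtain ⟨g, hg⟩ := h n a b hn (fun i j hij => by
      obtain ⟨g, h1, h2⟩ := hIJ i j hij
      rw [← ha, ← hb] at h1 h2
      exact ⟨g, (smul_mk_eq _ _ _).1 h1, (smul_mk_eq _ _ _).1 h2⟩)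
    refine ⟨g, fun i => ?_⟩
    rw [← ha, ← hb]
    exact (smul_mk_eq _ _ _).2 (hg i)

theorem binary_comap (π : G →* G') (hπ : Function.Surjective π) (H : Subgroup G') :
    Binary (H.comap π) ↔ Binary H := by
  rw [binary_iff_rep, binary_iff_rep]
  constructor
  · intro h n a b hn hab
    choose a' ha using fun i => hπ (a i)
    choose b' hb using fun i => hπ (b i)
    obtain ⟨g, hg⟩ := h n a' b' hn (fun i j hij => by
      obtain ⟨g, h1, h2⟩ := hab i j hij
      obtain ⟨g', rfl⟩ := hπ g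
      refine ⟨g', ?_, ?_⟩
      · rw [Subgroup.mem_comap, map_mul, map_mul, map_inv, ha, hb]; exact h1
      · rw [Subgroup.mem_comap, map_mul, map_mul, map_inv, ha, hb]; exact h2)
    refine ⟨π g, fun i => ?_⟩
    have := hg i
    rwa [Subgroup.mem_comap, map_mul, map_mul, map_inv, ha, hb] at this
  · intro h n a b hn hab
    obtain ⟨g, hg⟩ := h n (π ∘ a) (π ∘ b) hn (fun i j hij => by
      obtain ⟨g, h1, h2⟩ := hab i j hij
      rw [Subgroup.mem_comap, map_mul, map_mul, map_inv] at h1 h2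
      exact ⟨π g, h1, h2⟩)
    obtain ⟨g', rfl⟩ := hπ g
    refine ⟨g', fun i => ?_⟩
    rw [Subgroup.mem_comap, map_mul, map_mul, map_inv]
    exact hg i

theorem binary_congr (e : G ≃* G') (H : Subgroup G) : Binary (H.map e.toMonoidHom) ↔ Binary H := by
  have h : H.map e.toMonoidHom = H.comap e.symm.toMonoidHom := by
    ext x
    constructor
    · rintro ⟨y, hy, rfl⟩
      show e.symm (e y) ∈ H
      rwa [e.symm_apply_apply]
    · intro hx
      exact ⟨e.symm x, hx, e.apply_symm_apply x⟩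
  rw [h]
  exact binary_comap e.symm.toMonoidHom e.symm.surjective H

/-- the conjugate subgroup `g H g⁻¹` -/
def cj (g : G) (H : Subgroup G) : Subgroup G := H.map (MulAut.conj g).toMonoidHom

theorem mem_cj {g x : G} {H : Subgroup G} : x ∈ cj g H ↔ g⁻¹ * x * g ∈ H := by
  constructor
  · rintro ⟨y, hy, rfl⟩
    have : g⁻¹ * (MulAut.conj g).toMonoidHom y * g = y := by
      show g⁻¹ * (g * y * g⁻¹) * g = y
      group
    rw [this]; exact hy
  · intro h
    refine ⟨_, h, ?_⟩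
    show g * (g⁻¹ * x * g) * g⁻¹ = x
    group

theorem binary_cj {g : G} {H : Subgroup G} : Binary (cj g H) ↔ Binary H := binary_congr _ _

theorem cj_cj (a b : G) (H : Subgroup G) : cj a (cj b H) = cj (a * b) H := by
  ext x
  rw [mem_cj, mem_cj, mem_cj]
  have : b⁻¹ * (a⁻¹ * x * a) * b = (a * b)⁻¹ * x * (a * b) := by group
  rw [this]

theorem cj_one (H : Subgroup G) : cj 1 H = H := by
  ext x
  rw [mem_cj]
  simp

end Transport

variable {G : Type*} [Group G]

/-- **exponent two, centraliser condition** -/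
theorem binary_of_cent {Z : Subgroup G} (hinv : ∀ x ∈ Z, x * x = 1)
    (hcent : ∀ x ∈ Z, x ≠ 1 → ∀ y, y * y = 1 → y * x = x * y → y ∈ Z) : Binary Z := by
  have hcomm : ∀ p q : G, p * p = 1 → q * q = 1 → (p * q) * (p * q) = 1 → p * q = q * p := by
    intro p q hp hq hpq
    have h1 : (p * q)⁻¹ = p * q := inv_eq_of_mul_eq_one_right hpq
    have h2 : p⁻¹ = p := inv_eq_of_mul_eq_one_right hp
    have h3 : q⁻¹ = q := inv_eq_of_mul_eq_one_right hq
    rw [← h1, mul_inv_rev, h2, h3]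
  apply binary_of_ti
  · intro g x hx hx1 hgx y hy
    have hxy : y * x = x * y := hcomm _ _ (hinv y hy) (hinv x hx) (hinv _ (Z.mul_mem hy hx))
    apply hcent _ hgx
    · intro h
      apply hx1
      have : x = g * (g⁻¹ * x * g) * g⁻¹ := by group
      rw [this, h]; group
    · have : g⁻¹ * y * g * (g⁻¹ * y * g) = g⁻¹ * (y * y) * g := by group
      rw [this, hinv y hy]; group
    · have : g⁻¹ * y * g * (g⁻¹ * x * g) = g⁻¹ * (y * x) * g := by group
      rw [this, hxy]; group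
  · intro a b c p q r hp hq hr hp1 hq1 hr1 hqpr
    have sq : ∀ a p : G, a⁻¹ * p * a ∈ Z → p * p = 1 := by
      intro a p hp
      have h1 := hinv _ hp
      have : p * p = a * (a⁻¹ * p * a * (a⁻¹ * p * a)) * a⁻¹ := by group
      rw [this, h1]; group
    have hpp := sq _ _ hp
    have hqq := sq _ _ hq
    have hrr := sq _ _ hr
    have hpr : p * r = r * p := hcomm p r hpp hrr (by rw [← hqpr]; exact hqq)
    apply hcent _ hq
    · intro h
      apply hq1
      have : q = b * (b⁻¹ * q * b) * b⁻¹ := by group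
      rw [this, h]; group
    · have : b⁻¹ * p * b * (b⁻¹ * p * b) = b⁻¹ * (p * p) * b := by group
      rw [this, hpp]; group
    · have e1 : b⁻¹ * p * b * (b⁻¹ * q * b) = b⁻¹ * (p * q) * b := by group
      have e2 : b⁻¹ * q * b * (b⁻¹ * p * b) = b⁻¹ * (q * p) * b := by group
      rw [e1, e2]
      have : p * q = q * p := by
        rw [hqpr, mul_assoc, ← hpr]
      rw [this]

/-- rank one Bruhat data in characteristic two; `Z` is the set of elements of `U` of square one. -/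
structure Frame (B U Z : Subgroup G) (w : G) : Prop where
  data : Data B U w
  ww : w * w = 1
  ZU : Z ≤ U
  Zn : ∀ b ∈ B, ∀ z ∈ Z, b * z * b⁻¹ ∈ Z
  inv : ∀ x ∈ Z, x * x = 1
  inv' : ∀ x ∈ U, x * x = 1 → x ∈ Z
  two : ∀ x ∈ B, ∀ n : ℕ, x ^ (2 ^ n) = 1 → x ∈ U
  twoU : IsPGroup 2 U
  Tw : ∀ t ∈ B, w⁻¹ * t * w ∈ B → w⁻¹ * t * w ∈ Subgroup.zpowers t
  TZ : ∀ t ∈ B, w⁻¹ * t * w ∈ B → ∀ z ∈ Z, z ≠ 1 → t * z = z * t → ∀ z' ∈ Z, t * z' = z' * t

namespace Frame

variable {B U Z : Subgroup G} {w : G}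

theorem winv (F : Frame B U Z w) : w⁻¹ = w := inv_eq_of_mul_eq_one_right F.ww

/-- an element commuting with a nontrivial element of `U` lies in `B` -/
theorem mem_B_of_conj (F : Frame B U Z w) {x g : G} (hx : x ∈ U) (hx1 : x ≠ 1)
    (h : g⁻¹ * x * g ∈ B) : g ∈ B := by
  by_contra hg
  obtain ⟨s, hs, hsg⟩ := F.data.bruhat g hg
  -- `g = s w b`
  set b := (s * w)⁻¹ * g with hb
  have hg' : g = s * w * b := by rw [hb]; group
  have h1 : w⁻¹ * (s⁻¹ * x * s) * w ∈ B := by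
    have : w⁻¹ * (s⁻¹ * x * s) * w = b * (g⁻¹ * x * g) * b⁻¹ := by
      rw [hg']; group
    rw [this]
    exact B.mul_mem (B.mul_mem hsg h) (B.inv_mem hsg)
  have h2 := F.data.inter _ (U.mul_mem (U.mul_mem (U.inv_mem hs) hx) hs) h1
  apply hx1
  have : x = s * (s⁻¹ * x * s) * s⁻¹ := by group
  rw [this, h2]; group

theorem mem_B_of_comm (F : Frame B U Z w) {x y : G} (hx : x ∈ U) (hx1 : x ≠ 1) (h : y * x = x * y) :
    y ∈ B := by
  apply F.mem_B_of_conj hx hx1
  have : y⁻¹ * x * y = x := by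
    rw [mul_assoc, ← h]; group
  rw [this]
  exact F.data.le hx

theorem cent (F : Frame B U Z w) : ∀ x ∈ Z, x ≠ 1 → ∀ y, y * y = 1 → y * x = x * y → y ∈ Z := by
  intro x hx hx1 y hy hyx
  have hyB : y ∈ B := F.mem_B_of_comm (F.ZU hx) hx1 hyx
  exact F.inv' _ (F.two _ hyB 1 (by rw [pow_one, pow_two, hy])) hy

theorem comm (F : Frame B U Z w) {x y : G} (hx : x ∈ Z) (hy : y ∈ Z) : x * y = y * x := by
  have h1 : (x * y)⁻¹ = x * y := inv_eq_of_mul_eq_one_right (F.inv _ (Z.mul_mem hx hy))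
  have h2 : x⁻¹ = x := inv_eq_of_mul_eq_one_right (F.inv _ hx)
  have h3 : y⁻¹ = y := inv_eq_of_mul_eq_one_right (F.inv _ hy)
  rw [← h1, mul_inv_rev, h2, h3]

/-- **the action on the cosets of `Z` is binary** -/
theorem binary_Z (F : Frame B U Z w) : Binary Z := binary_of_cent F.inv F.cent

theorem Zn' (F : Frame B U Z w) {b z : G} (hb : b ∈ B) (hz : z ∈ Z) : b⁻¹ * z * b ∈ Z := by
  have := F.Zn b⁻¹ (B.inv_mem hb) z hz
  rwa [inv_inv] at this

/-- a conjugate of `Z` meeting `H` nontrivially lies in `H` -/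
theorem le_of_mem [Finite G] (F : Frame B U Z w) {H : Subgroup G} (hb : Binary H)
    (hone : ∀ s t : G, orderOf s = 2 → orderOf t = 2 → IsConj s t) {x g : G} (hx : x ∈ Z)
    (hx1 : x ≠ 1) (h : g * x * g⁻¹ ∈ H) : ∀ z ∈ Z, g * z * g⁻¹ ∈ H := by
  intro z hz
  by_cases hz1 : z = 1
  · rw [hz1]
    have : g * 1 * g⁻¹ = 1 := by group
    rw [this]; exact H.one_mem
  have := hb.conj_mem hone (g := g⁻¹) (orderOf_eq_two (F.inv x hx) hx1)
    (orderOf_eq_two (F.inv z hz) hz1) (F.comm hx hz) (by rw [inv_inv]; exact h)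
  rwa [inv_inv] at this

/-- an element of odd prime order of `B` is conjugate by an element of `U` to an element of the torus -/
theorem exists_torus [Finite G] (F : Frame B U Z w) {k : G} (hk : k ∈ B) {p : ℕ}
    (hp : p.Prime) (hp2 : p ≠ 2) (hkp : orderOf k = p) :
    ∃ s ∈ U, w⁻¹ * (s⁻¹ * k * s) * w ∈ B := by
  classical
  have : Fact p.Prime := ⟨hp⟩
  -- the action on the cosets different from `B`
  let X : Set (G ⧸ B) := {x | x ≠ QuotientGroup.mk 1}
  have hk1 : k • (QuotientGroup.mk 1 : G ⧸ B) = QuotientGroup.mk 1 := by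
    rw [smul_mk_eq]; simpa using hk
  have hXk : ∀ x : G ⧸ B, x ∈ X → k • x ∈ X := by
    intro x hx h
    apply hx
    have : k • x = k • (QuotientGroup.mk 1 : G ⧸ B) := by rw [hk1]; exact h
    exact smul_left_cancel k this
  let σ : Equiv.Perm X := Equiv.ofBijective (fun x => (⟨k • (x : G ⧸ B), hXk _ x.2⟩ : X)) (by
    rw [← Finite.injective_iff_bijective]
    intro x y hxy
    apply Subtype.ext
    exact smul_left_cancel k (congrArg Subtype.val hxy))
  have hσ : ∀ n : ℕ, ∀ x : X, (((σ ^ n) x : X) : G ⧸ B) = k ^ n • (x : G ⧸ B) := by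
    intro n
    induction n with
    | zero => intro x; simp
    | succ n ih =>
      intro x
      rw [pow_succ', pow_succ', mul_smul, Equiv.Perm.mul_apply, ← ih]
      rfl
  have hσp : σ ^ p ^ 1 = 1 := by
    ext x
    rw [hσ, pow_one, ← hkp, pow_orderOf_eq_one, one_smul]
    rfl
  have hcardX : Nat.card X = Nat.card U := by
    let f : U → X := fun s => ⟨(s : G) • (QuotientGroup.mk w : G ⧸ B), F.data.smul_w_ne s⟩
    have hf : Function.Bijective f := by
      constructor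
      · intro s t hst
        exact F.data.smul_w_inj s t (congrArg Subtype.val hst)
      · rintro ⟨x, hx⟩
        obtain ⟨s, hs⟩ := F.data.exists_eq x hx
        exact ⟨s, Subtype.ext hs⟩
    exact (Nat.card_congr (Equiv.ofBijective f hf)).symm
  have hnd : ¬ p ∣ Nat.card X := by
    rw [hcardX]
    obtain ⟨n, hn⟩ := F.twoU.exists_card_eq
    rw [hn]
    intro h
    exact hp2 ((Nat.prime_dvd_prime_iff_eq hp Nat.prime_two).1 (hp.dvd_of_dvd_pow h))
  have : Fintype X := Fintype.ofFinite X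
  obtain ⟨x, hx⟩ := Equiv.Perm.exists_fixed_point_of_prime (α := X) (p := p) (n := 1)
    (by rw [← Nat.card_eq_fintype_card]; exact hnd) hσp
  have hx' : k • (x : G ⧸ B) = x := by
    have := hσ 1 x
    rw [pow_one, pow_one] at this
    rw [← this, hx]
  obtain ⟨s, hs⟩ := F.data.exists_eq (x : G ⧸ B) x.2
  refine ⟨s, s.2, ?_⟩
  rw [← hs] at hx'
  have hs2 : (s : G) • (QuotientGroup.mk w : G ⧸ B) = QuotientGroup.mk ((s : G) * w) := rfl
  rw [hs2, smul_mk_eq] at hx'
  have : w⁻¹ * ((s : G)⁻¹ * k * s) * w = ((s : G) * w)⁻¹ * (k * (s * w)) := by group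
  rw [this]; exact hx'

/-- **the torus of `H` centralises `Z`**, if `Z ≤ H ≤ B` -/
theorem torus_comm (F : Frame B U Z w) {H : Subgroup G} (hb : Binary H) (hZ : Z ≤ H) (hHB : H ≤ B)
    {k : G} (hk : k ∈ H) (hkw : w⁻¹ * k * w ∈ B) : ∀ z ∈ Z, k * z = z * k := by
  by_contra hne
  push Not at hne
  obtain ⟨v, hv, hvk⟩ := hne
  have hkB := hHB hk
  set v' := k * v * k⁻¹ with hv'
  have hv'Z : v' ∈ Z := F.Zn k hkB v hv
  have hne' : v' ≠ v := by
    intro h
    apply hvk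
    rw [hv'] at h
    exact mul_inv_eq_iff_eq_mul.1 h
  have hkw' : w⁻¹ * k * w ∈ H := by
    have := F.Tw k hkB hkw
    exact (Subgroup.zpowers_le.2 hk) this
  obtain ⟨g, hg, hgw, h1, h2⟩ := hb.four hkw' (hZ hv) hk (F.comm hv'Z hv)
  rw [← hv'] at h1 h2
  have hgB := hHB hg
  have hgwB := hHB hgw
  -- `g` commutes with `v v'`
  have key : ∀ x y : G, x ∈ Z → y ∈ Z → (y * w)⁻¹ * g * (x * w) ∈ H → g * x * g⁻¹ = y := by
    intro x y hx hy h
    have e1 : (y * w)⁻¹ * g * (x * w) = (w⁻¹ * (y⁻¹ * (g * x * g⁻¹)) * w) * (w⁻¹ * g * w) := by group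
    rw [e1] at h
    have h3 := B.mul_mem (hHB h) (B.inv_mem hgwB)
    rw [mul_inv_cancel_right] at h3
    have h4 := F.data.inter _ (U.mul_mem (U.inv_mem (F.ZU hy)) (F.data.norm g hgB x (F.ZU hx))) h3
    exact (inv_mul_eq_one.1 h4).symm
  have k1 := key _ _ (Z.mul_mem hv hv'Z) (Z.mul_mem hv hv'Z) (by simpa [mul_assoc] using h1)
  have k2 := key _ _ hv hv'Z (by simpa [mul_assoc] using h2)
  have hvv : v * v' ≠ 1 := by
    intro h
    apply hne'
    have h3 : v⁻¹ = v := inv_eq_of_mul_eq_one_right (F.inv v hv)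
    have h4 : v' = v⁻¹ := (inv_eq_of_mul_eq_one_right h).symm
    rw [h4, h3]
  have h5 := F.TZ g hgB hgwB _ (Z.mul_mem hv hv'Z) hvv (mul_inv_eq_iff_eq_mul.1 k1) v hv
  apply hne'
  rw [← k2, h5]; group

/-- `U` is a Sylow 2-subgroup -/
theorem exists_sylow [Finite G] (F : Frame B U Z w) (hZ : Z ≠ ⊥) : ∃ P : Sylow 2 G, (P : Subgroup G) = U := by
  have : Fact (Nat.Prime 2) := ⟨Nat.prime_two⟩
  obtain ⟨P, hP⟩ := F.twoU.exists_le_sylow
  refine ⟨P, le_antisymm ?_ hP⟩
  obtain ⟨x, hx, hx1⟩ := (Subgroup.ne_bot_iff_exists_ne_one (H := Z)).1 hZ |>.elim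
    (fun x hx => (⟨(x : G), x.2, fun h => hx (Subtype.ext h)⟩ : ∃ x : G, x ∈ Z ∧ x ≠ 1))
  have hxP : x ∈ (P : Subgroup G) := hP (F.ZU hx)
  have hPn : Nontrivial P := ⟨⟨⟨x, hxP⟩, 1, fun h => hx1 (congrArg Subtype.val h)⟩⟩
  have hc := P.isPGroup'.center_nontrivial
  obtain ⟨⟨⟨z, hzP⟩, hzc⟩, hz1⟩ := exists_ne (1 : Subgroup.center P)
  have hz1' : z ≠ 1 := fun h => hz1 (Subtype.ext (Subtype.ext h))
  have hzc' : ∀ y ∈ (P : Subgroup G), y * z = z * y := by
    intro y hy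
    have := Subgroup.mem_center_iff.1 hzc ⟨y, hy⟩
    exact congrArg Subtype.val this
  have htwo : ∀ y ∈ (P : Subgroup G), y ∈ B → y ∈ U := by
    intro y hy hyB
    obtain ⟨n, hn⟩ := P.isPGroup' ⟨y, hy⟩
    exact F.two y hyB n (congrArg Subtype.val hn)
  have hzU : z ∈ U := htwo z hzP (F.mem_B_of_comm (F.ZU hx) hx1 (hzc' x hxP).symm)
  intro y hy
  exact htwo y hy (F.mem_B_of_comm hzU hz1' (hzc' y hy))

theorem exists_conj [Finite G] (F : Frame B U Z w) (hZ : Z ≠ ⊥) {H : Subgroup G} (hb : Binary H)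
    (hone : ∀ s t : G, orderOf s = 2 → orderOf t = 2 → IsConj s t) (heven : Even (Nat.card H)) :
    ∃ g : G, Z ≤ cj g H := by
  have : Fact (Nat.Prime 2) := ⟨Nat.prime_two⟩
  obtain ⟨t', ht'⟩ := exists_prime_orderOf_dvd_card' (G := H) 2 heven.two_dvd
  have htH : (t' : G) ∈ H := t'.2
  have ht : orderOf (t' : G) = 2 := by rw [Subgroup.orderOf_coe, ht']
  obtain ⟨P, hP⟩ := F.exists_sylow hZ
  have htp : IsPGroup 2 (Subgroup.zpowers (t' : G)) := by
    rw [IsPGroup.iff_card]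
    exact ⟨1, by rw [Nat.card_zpowers, ht, pow_one]⟩
  obtain ⟨Q, hQ⟩ := htp.exists_le_sylow
  obtain ⟨g, hg⟩ := MulAction.exists_smul_eq G Q P
  have hgt : g * (t' : G) * g⁻¹ ∈ U := by
    rw [← hP, ← hg]
    rw [Sylow.coe_subgroup_smul, Subgroup.mem_smul_pointwise_iff_exists]
    exact ⟨t', hQ (Subgroup.mem_zpowers _), rfl⟩
  have hgZ : g * (t' : G) * g⁻¹ ∈ Z := by
    apply F.inv' _ hgt
    have := mul_self_of_orderOf ht
    have e : g * (t' : G) * g⁻¹ * (g * (t' : G) * g⁻¹) = g * ((t' : G) * t') * g⁻¹ := by group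
    rw [e, this]; group
  refine ⟨g, fun z hz => ?_⟩
  rw [mem_cj]
  have hne : g * (t' : G) * g⁻¹ ≠ 1 := by
    intro h
    apply ne_one_of_orderOf ht
    have : (t' : G) = g⁻¹ * (g * (t' : G) * g⁻¹) * g := by group
    rw [this, h]; group
  have := F.le_of_mem hb hone hgZ hne (g := g⁻¹) (by
    have : g⁻¹ * (g * (t' : G) * g⁻¹) * g⁻¹⁻¹ = t' := by group
    rw [this]; exact htH) z hz
  rwa [inv_inv] at this

/-- **Case A.** -/
theorem case_A [Finite G] (F : Frame B U Z w) {H : Subgroup G} (hb : Binary H) (hZ : Z ≤ H)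
    (hHB : H ≤ B) : H ≤ U ∨ ∃ s ∈ U, ∃ k ∈ cj s⁻¹ H, k ≠ 1 ∧ w⁻¹ * k * w ∈ B ∧
      (∀ z ∈ Z, k * z = z * k) ∧ Z ≤ cj s⁻¹ H ∧ cj s⁻¹ H ≤ B := by
  by_contra hne
  push Not at hne
  obtain ⟨hHU, hne⟩ := hne
  obtain ⟨h, hh, hhU⟩ := SetLike.not_le_iff_exists.1 hHU
  rcases Nat.eq_two_pow_or_exists_odd_prime_and_dvd (orderOf h) with ⟨n, hn⟩ | ⟨p, hp, hpd, hpo⟩
  · apply hhU
    apply F.two h (hHB hh) n
    rw [← hn, pow_orderOf_eq_one]
  · obtain ⟨m, hm⟩ := hpd
    have hpos := orderOf_pos h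
    have hm0 : m ≠ 0 := by rintro rfl; omega
    set k := h ^ m with hk
    have hkp : orderOf k = p := by
      rw [hk, orderOf_pow_of_dvd hm0 ⟨p, by rw [hm, mul_comm]⟩, hm,
        Nat.mul_div_cancel _ (Nat.pos_of_ne_zero hm0)]
    have hkH : k ∈ H := H.pow_mem hh m
    have hp2 : p ≠ 2 := by
      rintro rfl
      exact (by decide : ¬ Odd 2) hpo
    obtain ⟨s, hs, hsk⟩ := F.exists_torus (hHB hkH) hp hp2 hkp
    have hZ' : Z ≤ cj s⁻¹ H := by
      intro z hz
      rw [mem_cj, inv_inv]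
      exact hZ (F.Zn s (F.data.le hs) z hz)
    have hB' : cj s⁻¹ H ≤ B := by
      intro x hx
      rw [mem_cj, inv_inv] at hx
      have hsB := F.data.le hs
      have h1 := B.mul_mem (B.mul_mem (B.inv_mem hsB) (hHB hx)) hsB
      have : s⁻¹ * (s * x * s⁻¹) * s = x := by group
      rwa [this] at h1
    have hk' : s⁻¹ * k * s ∈ cj s⁻¹ H := by
      rw [mem_cj, inv_inv]
      have : s * (s⁻¹ * k * s) * s⁻¹ = k := by group
      rw [this]; exact hkH
    have hk1 : s⁻¹ * k * s ≠ 1 := by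
      intro h1
      have : k = s * (s⁻¹ * k * s) * s⁻¹ := by group
      rw [h1] at this
      have h2 : k = 1 := by rw [this]; group
      rw [h2, orderOf_one] at hkp
      exact hp.one_lt.ne hkp
    have hcomm := F.torus_comm (binary_cj.2 hb) hZ' hB' hk' hsk
    exact hne s hs _ hk' hk1 hsk hcomm hZ' hB'

/-- **Case B.** -/
theorem case_B (F : Frame B U Z w) {H : Subgroup G} (hZ : Z ≤ H) (hHB : ¬ H ≤ B) :
    ∃ s ∈ U, Z ≤ cj s⁻¹ H ∧ ∀ z ∈ Z, w * z * w ∈ cj s⁻¹ H := by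
  obtain ⟨h, hh, hhB⟩ := SetLike.not_le_iff_exists.1 hHB
  obtain ⟨s, hs, hsg⟩ := F.data.bruhat h hhB
  set b := (s * w)⁻¹ * h with hb
  have hg' : h = s * w * b := by rw [hb]; group
  refine ⟨s, hs, ?_, ?_⟩
  · intro z hz
    rw [mem_cj, inv_inv]
    exact hZ (F.Zn s (F.data.le hs) z hz)
  · intro z hz
    rw [mem_cj, inv_inv]
    have e : s * (w * z * w) * s⁻¹ = h * (b⁻¹ * z * b) * h⁻¹ := by
      rw [hg']
      have h1 : s * w * b * (b⁻¹ * z * b) * (s * w * b)⁻¹ = s * w * z * w⁻¹ * s⁻¹ := by group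
      rw [h1, F.winv]; group
    rw [e]
    exact H.mul_mem (H.mul_mem hh (hZ (F.Zn' hsg hz))) (H.inv_mem hh)

/-- the involution swapping the two points -/
theorem exists_swap [Finite G] (F : Frame B U Z w) {H : Subgroup G} (hZ : Z ≤ H)
    (hZw : ∀ z ∈ Z, w * z * w ∈ H) {z z' : G} (hz : z ∈ Z) (hz1 : z ≠ 1) (hz' : z' ∈ Z)
    (hz1' : z' ≠ 1) : ∃ t ∈ B, w⁻¹ * t * w ∈ B ∧ t * w ∈ H ∧ (t * w) * z * (t * w)⁻¹ = w * z' * w := by
  set y := w * z' * w with hy
  have hy2 : orderOf y = 2 := by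
    apply orderOf_eq_two
    · have : y * y = w * (z' * (w * w) * z') * w := by rw [hy]; group
      rw [this, F.ww, mul_one, F.inv z' hz', mul_one, F.ww]
    · intro h
      apply hz1'
      have : z' = w⁻¹ * y * w⁻¹ := by rw [hy]; group
      rw [this, h, F.winv, mul_one, F.ww]
  have hz2 : orderOf z = 2 := orderOf_eq_two (F.inv z hz) hz1
  have hyy := mul_self_of_orderOf hy2
  have hzz := mul_self_of_orderOf hz2
  have hinter : ∀ x ∈ Z, w * x * w ∈ B → x = 1 := by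
    intro x hx h
    apply F.data.inter x (F.ZU hx)
    rw [F.winv]; exact h
  have hodd : ¬ Even (orderOf (z * y)) := by
    intro he
    obtain ⟨c, hc2, hc1, hcy⟩ := exists_central hz2 hy2 he
    have hcc := mul_self_of_orderOf hc2
    have hcZ : c ∈ Z := F.cent z hz hz1 c hcc hc1
    -- `c` commutes with `y`
    have h2 : w * c * w ∈ Z := by
      apply F.cent z' hz' hz1'
      · have : w * c * w * (w * c * w) = w * (c * (w * w) * c) * w := by group
        rw [this, F.ww, mul_one, hcc, mul_one, F.ww]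
      · have e1 : w * c * w * z' = w * (c * y) * w⁻¹ := by rw [hy]; group
        have e2 : z' * (w * c * w) = w⁻¹ * (y * c) * w := by
          rw [hy]
          have : w⁻¹ * (w * z' * w * c) * w = z' * (w * c * w) := by group
          rw [this]
        rw [e1, e2, hcy, F.winv]
    have := hinter c hcZ (F.data.le (F.ZU h2))
    exact ne_one_of_orderOf hc2 this
  rw [Nat.not_even_iff_odd] at hodd
  obtain ⟨m, hm⟩ := hodd
  have hzi : z⁻¹ = z := inv_eq_of_mul_eq_one_right hzz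
  have hyi : y⁻¹ = y := inv_eq_of_mul_eq_one_right hyy
  set c := z * y with hc
  have hcn : c ^ (2 * m + 1) = 1 := by rw [← hm, pow_orderOf_eq_one]
  have hzc : z * c * z⁻¹ = c⁻¹ := by
    rw [hc, mul_inv_rev, hzi, hyi, ← mul_assoc, hzz, one_mul]
  have hzcm : z * c ^ m * z⁻¹ = (c ^ m)⁻¹ := by rw [← conj_pow, hzc, inv_pow]
  -- the swapping involution
  set e := c ^ m * z with he
  have hee : e * e = 1 := by
    have : e * e = c ^ m * (z * c ^ m * z⁻¹) * (z * z) := by rw [he]; group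
    rw [this, hzz, mul_one, hzcm, mul_inv_cancel]
  have hei : e⁻¹ = e := inv_eq_of_mul_eq_one_right hee
  have hez : e * z * e⁻¹ = y := by
    have h1 : e * z * e⁻¹ = (c ^ m * (z * c ^ m * z⁻¹)⁻¹) * z := by
      rw [he]; group
    rw [h1, hzcm, inv_inv, ← pow_add]
    have h3 : c ^ (m + m) = c⁻¹ := by
      rw [eq_inv_iff_mul_eq_one, ← pow_succ]
      have : m + m + 1 = 2 * m + 1 := by ring
      rw [this, hcn]
    rw [h3, hc, mul_inv_rev, hzi, hyi, mul_assoc, hzz, mul_one]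
  have hweB : w⁻¹ * e ∈ B := by
    have h1 : (w⁻¹ * e)⁻¹ ∈ B := by
      apply F.mem_B_of_conj (F.ZU hz) hz1
      have : (w⁻¹ * e)⁻¹⁻¹ * z * (w⁻¹ * e)⁻¹ = w⁻¹ * (e * z * e⁻¹) * w := by group
      rw [this, hez, hy]
      have : w⁻¹ * (w * z' * w) * w = z' * (w * w) := by group
      rw [this, F.ww, mul_one]
      exact F.data.le (F.ZU hz')
    have := B.inv_mem h1
    rwa [inv_inv] at this
  refine ⟨e * w, ?_, ?_, ?_, ?_⟩
  · have h1 := B.inv_mem hweB
    rwa [mul_inv_rev, hei, inv_inv] at h1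
  · have : w⁻¹ * (e * w) * w = w⁻¹ * e * (w * w) := by group
    rw [this, F.ww, mul_one]
    exact hweB
  · rw [mul_assoc, F.ww, mul_one]
    exact H.mul_mem (H.pow_mem (H.mul_mem (hZ hz) (hZw z' hz')) m) (hZ hz)
  · rw [mul_assoc e, F.ww, mul_one]
    exact hez

omit [Group G] in
theorem mem_center_map {G : Type*} [Group G] (P : Subgroup G) (x : G) :
    x ∈ (Subgroup.center P).map P.subtype ↔ x ∈ P ∧ ∀ y ∈ P, y * x = x * y := by
  constructor
  · rintro ⟨⟨y, hy⟩, hyc, rfl⟩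
    refine ⟨hy, fun z hz => ?_⟩
    have := Subgroup.mem_center_iff.1 hyc ⟨z, hz⟩
    exact congrArg Subtype.val this
  · rintro ⟨hx, h⟩
    refine ⟨⟨x, hx⟩, ?_, rfl⟩
    rw [SetLike.mem_coe, Subgroup.mem_center_iff]
    rintro ⟨y, hy⟩
    exact Subtype.ext (h y hy)

theorem sylow_conj [Finite G] (F : Frame B U Z w) (hZ : Z ≠ ⊥) (P : Sylow 2 G) :
    ∃ g : G, (P : Subgroup G) = cj g U := by
  have : Fact (Nat.Prime 2) := ⟨Nat.prime_two⟩
  obtain ⟨Q, hQ⟩ := F.exists_sylow hZ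
  obtain ⟨g, hg⟩ := MulAction.exists_smul_eq G Q P
  refine ⟨g, ?_⟩
  rw [← hg, ← hQ]
  rfl

theorem exists_sylow_cj [Finite G] (F : Frame B U Z w) (hZ : Z ≠ ⊥) (g : G) :
    ∃ P : Sylow 2 G, (P : Subgroup G) = cj g U := by
  obtain ⟨Q, hQ⟩ := F.exists_sylow hZ
  refine ⟨g • Q, ?_⟩
  rw [← hQ]
  rfl

theorem center_iff [Finite G] (F : Frame B U Z w) (hZ : Z ≠ ⊥)
    (hZc : ∀ x ∈ U, x ∈ Z ↔ ∀ y ∈ U, y * x = x * y) (H : Subgroup G) :
    (∃ P : Sylow 2 G, H = (Subgroup.center (P : Subgroup G)).map (P : Subgroup G).subtype) ↔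
      ∃ g, H = cj g Z := by
  have key : ∀ (P : Sylow 2 G) (g : G), (P : Subgroup G) = cj g U →
      (Subgroup.center (P : Subgroup G)).map (P : Subgroup G).subtype = cj g Z := by
    intro P g hP
    ext x
    rw [mem_center_map, mem_cj, hP, mem_cj]
    constructor
    · rintro ⟨h1, h2⟩
      rw [hZc _ h1]
      intro y hy
      have h3 := h2 (g * y * g⁻¹) (by
        rw [mem_cj]
        have : g⁻¹ * (g * y * g⁻¹) * g = y := by group
        rw [this]; exact hy)
      have e1 : y * (g⁻¹ * x * g) = g⁻¹ * (g * y * g⁻¹ * x) * g := by group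
      have e2 : g⁻¹ * x * g * y = g⁻¹ * (x * (g * y * g⁻¹)) * g := by group
      rw [e1, e2, h3]
    · intro h1
      refine ⟨F.ZU h1, fun y hy => ?_⟩
      rw [mem_cj] at hy
      have h3 := (hZc _ (F.ZU h1)).1 h1 _ hy
      have e1 : y * x = g * (g⁻¹ * y * g * (g⁻¹ * x * g)) * g⁻¹ := by group
      have e2 : x * y = g * (g⁻¹ * x * g * (g⁻¹ * y * g)) * g⁻¹ := by group
      rw [e1, e2, h3]
  constructor
  · rintro ⟨P, rfl⟩
    obtain ⟨g, hg⟩ := F.sylow_conj hZ P
    exact ⟨g, key P g hg⟩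
  · rintro ⟨g, rfl⟩
    obtain ⟨P, hP⟩ := F.exists_sylow_cj hZ g
    exact ⟨P, (key P g hP).symm⟩

/-- the conjugates of `Z` give binary actions -/
theorem binary_cj_Z (F : Frame B U Z w) (g : G) : Binary (cj g Z) := binary_cj.2 F.binary_Z

/-- summary: the conclusion from the three remaining cases -/
theorem eq_cj [Finite G] (F : Frame B U Z w) (hZ : Z ≠ ⊥) {H : Subgroup G} (hb : Binary H)
    (hone : ∀ s t : G, orderOf s = 2 → orderOf t = 2 → IsConj s t) (heven : Even (Nat.card H))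
    (hH : H ≠ ⊤)
    (hA : ∀ H : Subgroup G, Binary H → Z ≤ H → H ≤ U → H = Z)
    (hT : ∀ H : Subgroup G, Binary H → Z ≤ H → H ≤ B → ∀ k ∈ H, k ≠ 1 → w⁻¹ * k * w ∈ B →
      (∀ z ∈ Z, k * z = z * k) → False)
    (hB : ∀ H : Subgroup G, Binary H → H ≠ ⊤ → Z ≤ H → (∀ z ∈ Z, w * z * w ∈ H) → False) :
    ∃ g, H = cj g Z := by
  obtain ⟨g, hg⟩ := F.exists_conj hZ hb hone heven
  have hb1 : Binary (cj g H) := binary_cj.2 hb
  have htop : ∀ a : G, ∀ K : Subgroup G, K ≠ ⊤ → cj a K ≠ ⊤ := by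
    intro a K hK h
    apply hK
    rw [eq_top_iff]
    intro x _
    have : a * x * a⁻¹ ∈ cj a K := by rw [h]; trivial
    rw [mem_cj] at this
    have e : a⁻¹ * (a * x * a⁻¹) * a = x := by group
    rwa [e] at this
  by_cases hHB : cj g H ≤ B
  · rcases F.case_A hb1 hg hHB with h | ⟨s, -, k, hk, hk1, hkw, hkc, h1, h2⟩
    · refine ⟨g⁻¹, ?_⟩
      rw [← hA _ hb1 hg h, cj_cj, inv_mul_cancel, cj_one]
    · exact (hT _ (binary_cj.2 hb1) h1 h2 k hk hk1 hkw hkc).elim
  · obtain ⟨s, -, h1, h2⟩ := F.case_B hg hHB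
    exact (hB _ (binary_cj.2 hb1) (htop _ _ (htop _ _ hH)) h1 h2).elim

end Frame

end Cfsg.Agent.H896
end

-- part: H896/SzEven
section
/-!
# Binary actions of `Sz(2^(2m+1))` with point stabilisers of even order (helper896)
-/

set_option autoImplicit false
set_option linter.unusedSectionVars false

namespace Cfsg.Agent.H896

open Cfsg.Agent.LieRecognition Cfsg.Agent.LieRecognition.SzMatrix
  Cfsg.Agent.LieRecognition.RankOneAbstract

section Congr

variable {G G' : Type*} [Group G] [Group G']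

theorem sylow_center_congr_aux [Finite G] (e : G ≃* G') {H : Subgroup G}
    (h : ∃ P : Sylow 2 G, H = (Subgroup.center (P : Subgroup G)).map (P : Subgroup G).subtype) :
    ∃ P : Sylow 2 G', H.map e.toMonoidHom =
      (Subgroup.center (P : Subgroup G')).map (P : Subgroup G').subtype := by
  have : Fact (Nat.Prime 2) := ⟨Nat.prime_two⟩
  obtain ⟨P, rfl⟩ := h
  have hsurj : Function.Surjective e.toMonoidHom := e.surjective
  refine ⟨P.mapSurjective hsurj, ?_⟩
  ext x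
  rw [Frame.mem_center_map, Sylow.coe_mapSurjective]
  constructor
  · rintro ⟨y, hy, rfl⟩
    have hy' := (Frame.mem_center_map (P : Subgroup G) y).1 hy
    refine ⟨⟨y, hy'.1, rfl⟩, ?_⟩
    rintro _ ⟨z, hz, rfl⟩
    rw [← map_mul, ← map_mul, hy'.2 z hz]
  · rintro ⟨⟨y, hy, rfl⟩, h⟩
    refine ⟨y, ?_, rfl⟩
    show y ∈ (Subgroup.center (P : Subgroup G)).map (P : Subgroup G).subtype
    rw [Frame.mem_center_map]
    refine ⟨hy, fun z hz => ?_⟩
    apply e.injective
    have := h (e z) ⟨z, hz, rfl⟩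
    rw [map_mul, map_mul]
    exact this

theorem sylow_center_congr [Finite G] (e : G ≃* G') (H : Subgroup G) :
    (∃ P : Sylow 2 G', H.map e.toMonoidHom =
      (Subgroup.center (P : Subgroup G')).map (P : Subgroup G').subtype) ↔
    ∃ P : Sylow 2 G, H = (Subgroup.center (P : Subgroup G)).map (P : Subgroup G).subtype := by
  refine ⟨fun h => ?_, sylow_center_congr_aux e⟩
  have : Finite G' := Finite.of_equiv G e.toEquiv
  have h1 := sylow_center_congr_aux e.symm h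
  rw [Subgroup.map_map] at h1
  have h2 : e.symm.toMonoidHom.comp e.toMonoidHom = MonoidHom.id G := by
    ext x
    exact e.symm_apply_apply x
  rwa [h2, Subgroup.map_id] at h1

theorem sylow_congr [Finite G] (e : G ≃* G') (H : Subgroup G) :
    (∃ P : Sylow 2 G', H.map e.toMonoidHom = P) ↔ ∃ P : Sylow 2 G, H = P := by
  have : Fact (Nat.Prime 2) := ⟨Nat.prime_two⟩
  have : Finite G' := Finite.of_equiv G e.toEquiv
  constructor
  · rintro ⟨P, h⟩
    have hsurj : Function.Surjective e.symm.toMonoidHom := e.symm.surjective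
    refine ⟨P.mapSurjective hsurj, ?_⟩
    rw [Sylow.coe_mapSurjective, ← h, Subgroup.map_map]
    have h2 : e.symm.toMonoidHom.comp e.toMonoidHom = MonoidHom.id G := by
      ext x
      exact e.symm_apply_apply x
    rw [h2, Subgroup.map_id]
  · rintro ⟨P, rfl⟩
    have hsurj : Function.Surjective e.toMonoidHom := e.surjective
    exact ⟨P.mapSurjective hsurj, by rw [Sylow.coe_mapSurjective]⟩

theorem map_ne_top (e : G ≃* G') {H : Subgroup G} (hH : H ≠ ⊤) : H.map e.toMonoidHom ≠ ⊤ := by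
  intro h
  apply hH
  rw [eq_top_iff]
  intro x _
  have : e x ∈ H.map e.toMonoidHom := by rw [h]; trivial
  obtain ⟨y, hy, hyx⟩ := this
  have : y = x := e.injective hyx
  rwa [← this]

theorem card_map_equiv (e : G ≃* G') (H : Subgroup G) : Nat.card (H.map e.toMonoidHom) = Nat.card H :=
  (Nat.card_congr (H.equivMapOfInjective e.toMonoidHom e.injective).toEquiv).symm

theorem one_class_congr (e : G ≃* G') (h : ∀ s t : G, orderOf s = 2 → orderOf t = 2 → IsConj s t) :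
    ∀ s t : G', orderOf s = 2 → orderOf t = 2 → IsConj s t := by
  intro s t hs ht
  have h1 := h (e.symm s) (e.symm t) (by rw [MulEquiv.orderOf_eq, hs]) (by rw [MulEquiv.orderOf_eq, ht])
  have h2 := e.toMonoidHom.map_isConj h1
  have : e.toMonoidHom (e.symm s) = s := e.apply_symm_apply s
  rw [this] at h2
  have : e.toMonoidHom (e.symm t) = t := e.apply_symm_apply t
  rwa [this] at h2

end Congr

namespace Frame

variable {G : Type*} [Group G] [Finite G] {B U Z : Subgroup G} {w : G}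

theorem exists_conj_Z (F : Frame B U Z w) (hZ : Z ≠ ⊥) {t : G} (ht : orderOf t = 2) :
    ∃ g : G, g * t * g⁻¹ ∈ Z := by
  have : Fact (Nat.Prime 2) := ⟨Nat.prime_two⟩
  obtain ⟨P, hP⟩ := F.exists_sylow hZ
  have htp : IsPGroup 2 (Subgroup.zpowers t) := by
    rw [IsPGroup.iff_card]
    exact ⟨1, by rw [Nat.card_zpowers, ht, pow_one]⟩
  obtain ⟨Q, hQ⟩ := htp.exists_le_sylow
  obtain ⟨g, hg⟩ := MulAction.exists_smul_eq G Q P
  have hgt : g * t * g⁻¹ ∈ U := by
    rw [← hP, ← hg]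
    rw [Sylow.coe_subgroup_smul, Subgroup.mem_smul_pointwise_iff_exists]
    exact ⟨t, hQ (Subgroup.mem_zpowers _), rfl⟩
  refine ⟨g, F.inv' _ hgt ?_⟩
  have := mul_self_of_orderOf ht
  have e : g * t * g⁻¹ * (g * t * g⁻¹) = g * (t * t) * g⁻¹ := by group
  rw [e, this]; group

/-- one class of involutions, if `B` is transitive on the involutions of `Z` -/
theorem one_class (F : Frame B U Z w) (hZ : Z ≠ ⊥)
    (htr : ∀ x ∈ Z, ∀ y ∈ Z, x ≠ 1 → y ≠ 1 → IsConj x y) :
    ∀ s t : G, orderOf s = 2 → orderOf t = 2 → IsConj s t := by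
  intro s t hs ht
  obtain ⟨g, hg⟩ := F.exists_conj_Z hZ hs
  obtain ⟨h, hh⟩ := F.exists_conj_Z hZ ht
  have h1 : IsConj s (g * s * g⁻¹) := isConj_iff.2 ⟨g, rfl⟩
  have h2 : IsConj t (h * t * h⁻¹) := isConj_iff.2 ⟨h, rfl⟩
  have ne : ∀ a b : G, orderOf b = 2 → a * b * a⁻¹ ≠ 1 := by
    intro a b hb h
    apply ne_one_of_orderOf hb
    have : b = a⁻¹ * (a * b * a⁻¹) * a := by group
    rw [this, h]; group
  exact (h1.trans (htr _ hg _ hh (ne _ _ hs) (ne _ _ ht))).trans h2.symm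

end Frame

namespace SzG

variable {F : Type*} [Field F] {θ : F →+* F} {e : ℕ}

theorem data (H : Good F θ e) : Data H.borel H.unip H.w where
  w_not_mem := H.w_not_mem_borel
  le := H.unip_le_borel
  norm := H.borel_normalizes
  bruhat := H.bruhat_sz
  inter := H.inter_trivial

theorem w_conj_d (H : Good F θ e) (k : Fˣ) : (H.w)⁻¹ * H.d k * H.w = H.d k⁻¹ := by
  rw [H.w_inv, H.w_mul_d, mul_assoc, H.w_mul_w, mul_one]

theorem torus_form (H : Good F θ e) {g : ↥(Cfsg.Lie.Sz F e)} (h1 : g ∈ H.borel)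
    (h2 : (H.w)⁻¹ * g * H.w ∈ H.borel) : ∃ k, g = H.d k := by
  obtain ⟨a, b, k, rfl⟩ := (H.mem_borel_iff' g).mp h1
  have h3 : (H.w)⁻¹ * (H.u a b * H.d k) * H.w =
      ((H.w)⁻¹ * H.u a b * H.w) * ((H.w)⁻¹ * H.d k * H.w) := by group
  rw [h3, w_conj_d] at h2
  have h4 : (H.w)⁻¹ * H.u a b * H.w ∈ H.borel := by
    have h5 := H.borel.mul_mem h2 (H.borel.inv_mem (H.d_mem_borel k⁻¹))
    rwa [mul_inv_cancel_right] at h5
  have h5 := H.inter_trivial _ (H.u_mem_unip a b) h4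
  exact ⟨k, by rw [h5, one_mul]⟩

/-- the relation `w u(0,1) w = u(1,0)⁻¹ w u(1,0)` -/
theorem relation (H : Good F θ e) : H.w * H.u 0 1 * H.w = (H.u 1 0)⁻¹ * H.w * H.u 1 0 := by
  rw [H.u_inv]
  apply Subtype.ext
  apply Units.ext
  have h0 := H.two
  show (W F).1 * (H.U 0 1).1 * (W F).1 = (H.U 1 (0 + 1 * θ 1)).1 * (W F).1 * (H.U 1 0).1
  rw [W_val, H.U_val, H.U_val, H.U_val, Umat_def, Umat_def, Umat_def]
  ext i j
  fin_cases i <;> fin_cases j <;>
    simp [J, Matrix.mul_apply, Fin.sum_univ_four] <;>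
    first
    | linear_combination h0
    | linear_combination (-1 : F) * h0
    | linear_combination (-2 : F) * h0
    | linear_combination (-3 : F) * h0

/-- the elements of square one of `unip` -/
def Z (H : Good F θ e) : Subgroup ↥(Cfsg.Lie.Sz F e) where
  carrier := {g | ∃ b : F, g = H.u 0 b}
  mul_mem' := by
    rintro _ _ ⟨b, rfl⟩ ⟨c, rfl⟩
    exact ⟨b + c, by rw [H.u_mul, add_zero, zero_mul, add_zero]⟩
  one_mem' := ⟨0, by rw [H.u_zero]⟩
  inv_mem' := by
    rintro _ ⟨b, rfl⟩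
    exact ⟨b, by rw [H.u_inv, zero_mul, add_zero]⟩

theorem u_mem_Z (H : Good F θ e) {a b : F} : H.u a b ∈ Z H ↔ a = 0 := by
  constructor
  · rintro ⟨c, h⟩
    exact (H.u_inj h).1
  · rintro rfl
    exact ⟨b, rfl⟩

theorem d_mul_Z (H : Good F θ e) (k : Fˣ) (b : F) : H.d k * H.u 0 b * (H.d k)⁻¹ = H.u 0 (b * θ k) := by
  rw [mul_inv_eq_iff_eq_mul, H.d_mul_u, zero_mul, zero_mul]

theorem d_mul_U (H : Good F θ e) (k : Fˣ) (a b : F) :
    H.d k * H.u a b * (H.d k)⁻¹ = H.u (a * k ^ 2 * (θ k)⁻¹) (b * θ k) := by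
  rw [mul_inv_eq_iff_eq_mul, H.d_mul_u]

theorem pow_form (H : Good F θ e) (a b : F) (k : Fˣ) (m : ℕ) :
    ∃ c d, (H.u a b * H.d k) ^ m = H.u c d * H.d (k ^ m) := by
  induction m with
  | zero => exact ⟨0, 0, by rw [pow_zero, pow_zero, H.u_zero, H.d_one, one_mul]⟩
  | succ m ih =>
    obtain ⟨c, d, h⟩ := ih
    refine ⟨c + (a * (k ^ m : Fˣ) ^ 2 * (θ (k ^ m : Fˣ))⁻¹),
      d + b * θ (k ^ m : Fˣ) + c * θ (a * (k ^ m : Fˣ) ^ 2 * (θ (k ^ m : Fˣ))⁻¹), ?_⟩
    rw [pow_succ (H.u a b * H.d k) m, h, ← H.u_mul, pow_succ k m, ← H.d_mul]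
    have := H.d_mul_u (k ^ m) a b
    calc H.u c d * H.d (k ^ m) * (H.u a b * H.d k) = H.u c d * (H.d (k ^ m) * H.u a b) * H.d k := by
          group
      _ = _ := by rw [this]; group

theorem theta_eq_one (_H : Good F θ e) {k : Fˣ} (h : θ (k : F) = 1) : k = 1 := by
  apply Units.ext
  rw [Units.val_one]
  apply θ.injective
  rw [h, map_one]

theorem frame [Finite F] (H : Good F θ e) : Frame H.borel H.unip (Z H) H.w where
  data := data H
  ww := H.w_mul_w
  ZU := by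
    rintro _ ⟨b, rfl⟩
    exact H.u_mem_unip 0 b
  Zn := by
    intro g hg z hz
    obtain ⟨a, b, k, rfl⟩ := (H.mem_borel_iff' g).1 hg
    obtain ⟨c, rfl⟩ := hz
    have : H.u a b * H.d k * H.u 0 c * (H.u a b * H.d k)⁻¹ =
        H.u a b * (H.d k * H.u 0 c * (H.d k)⁻¹) * (H.u a b)⁻¹ := by group
    rw [this, d_mul_Z, H.u_inv, H.u_mul, H.u_mul, u_mem_Z, add_zero, H.add_self]
  inv := by
    rintro _ ⟨b, rfl⟩
    rw [H.u_mul, zero_mul, add_zero, add_zero, H.add_self, H.u_zero]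
  inv' := by
    intro x hx h
    obtain ⟨a, b, rfl⟩ := (H.mem_unip_iff x).1 hx
    rw [H.u_mul, H.add_self, H.add_self, zero_add, ← H.u_zero] at h
    have h1 := (H.u_inj h).2
    rw [u_mem_Z]
    rcases mul_eq_zero.1 h1 with h2 | h2
    · exact h2
    · exact (map_eq_zero θ).1 h2
  two := by
    intro x hx m hm
    obtain ⟨a, b, k, rfl⟩ := (H.mem_borel_iff' x).1 hx
    obtain ⟨c, d, h⟩ := pow_form H a b k (2 ^ m)
    have hm' : H.u c d * H.d (k ^ 2 ^ m) = H.u 0 0 * H.d 1 := by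
      rw [← h, hm, H.u_zero, H.d_one, one_mul]
    have h2 := (H.u_mul_d_inj hm').2.2
    have h3 : k ^ Nat.card Fˣ = 1 := pow_card_eq_one'
    have h4 : CharP F 2 := CharTwo.of_one_ne_zero_of_two_eq_zero one_ne_zero H.two
    have hodd : Odd (Nat.card Fˣ) := by
      rw [Nat.card_units]
      let _ : Fintype F := Fintype.ofFinite F
      obtain ⟨n, -, hn⟩ := FiniteField.card F 2
      rw [Nat.card_eq_fintype_card, hn]
      exact Nat.Even.sub_odd (Nat.one_le_pow _ _ (by norm_num)) (Nat.even_pow.mpr ⟨even_two, n.ne_zero⟩)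
        odd_one
    have h5 : k = 1 := by
      rw [← orderOf_eq_one_iff, ← Nat.dvd_one]
      have hc : Nat.Coprime (2 ^ m) (Nat.card Fˣ) :=
        Nat.Coprime.pow_left m (Nat.coprime_two_left.2 hodd)
      rw [← Nat.Coprime.gcd_eq_one hc]
      exact Nat.dvd_gcd (orderOf_dvd_of_pow_eq_one h2) (orderOf_dvd_of_pow_eq_one h3)
    rw [h5, H.d_one, mul_one]
    exact H.u_mem_unip a b
  twoU := by
    rintro ⟨x, hx⟩
    obtain ⟨a, b, rfl⟩ := (H.mem_unip_iff x).1 hx
    refine ⟨2, Subtype.ext ?_⟩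
    show H.u a b ^ (2 ^ 2) = 1
    have h2 : H.u a b ^ (2 ^ 2) = (H.u a b * H.u a b) * (H.u a b * H.u a b) := by
      rw [show (2 ^ 2 : ℕ) = 1 + 1 + 1 + 1 from rfl, pow_add, pow_add, pow_add, pow_one]
      group
    have e1 : H.u a b * H.u a b = H.u 0 (a * θ a) := by
      rw [H.u_mul, H.add_self, H.add_self, zero_add]
    rw [h2, e1, H.u_mul, zero_mul, add_zero, add_zero, H.add_self, H.u_zero]
  Tw := by
    intro t ht htw
    obtain ⟨k, rfl⟩ := torus_form H ht htw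
    rw [w_conj_d, ← H.d_inv]
    exact Subgroup.inv_mem _ (Subgroup.mem_zpowers _)
  TZ := by
    rintro t ht htw _ ⟨b, rfl⟩ hb1 h _ ⟨c, rfl⟩
    obtain ⟨k, rfl⟩ := torus_form H ht htw
    have h1 : H.u 0 (b * θ k) = H.u 0 b := by
      rw [← d_mul_Z, h]; group
    have h2 := (H.u_inj h1).2
    have hb : b ≠ 0 := by
      rintro rfl
      exact hb1 H.u_zero
    have h3 : θ (k : F) = 1 := by
      apply mul_left_cancel₀ hb
      rw [h2, mul_one]
    rw [theta_eq_one H h3, H.d_one, one_mul, mul_one]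

theorem Z_ne_bot (H : Good F θ e) : Z H ≠ ⊥ := by
  intro h
  have h1 : H.u 0 1 ∈ Z H := (u_mem_Z H).2 rfl
  rw [h, Subgroup.mem_bot, ← H.u_zero] at h1
  exact one_ne_zero (H.u_inj h1).2

/-- the weight map is onto -/
theorem exists_wt [Finite F] (H : Good F θ e) (c : Fˣ) : ∃ k : Fˣ, (k : F) ^ 2 * (θ k)⁻¹ = c := by
  obtain ⟨c', hc'⟩ := Finite.surjective_of_injective θ.injective (c : F)
  have hc0 : c' ≠ 0 := by
    rintro rfl
    rw [map_zero] at hc'
    exact c.ne_zero hc'.symm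
  have hc : (c : F) ≠ 0 := c.ne_zero
  refine ⟨Units.mk0 c' hc0 * c, ?_⟩
  rw [Units.val_mul, Units.val_mk0, map_mul, hc']
  have : θ (c : F) = c' ^ 2 := by rw [← hc', H.sq]
  rw [this]
  field_simp

theorem exists_theta [Finite F] (c : Fˣ) : ∃ k : Fˣ, θ (k : F) = c := by
  obtain ⟨c', hc'⟩ := Finite.surjective_of_injective θ.injective (c : F)
  have hc0 : c' ≠ 0 := by
    rintro rfl
    rw [map_zero] at hc'
    exact c.ne_zero hc'.symm
  exact ⟨Units.mk0 c' hc0, hc'⟩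

theorem unip_eq [Finite F] (H : Good F θ e) {K : Subgroup ↥(Cfsg.Lie.Sz F e)} (hb : Binary K)
    (hZ : Z H ≤ K) (hK : K ≤ H.unip) : K = Z H := by
  refine le_antisymm ?_ hZ
  intro x hx
  obtain ⟨a, b, rfl⟩ := (H.mem_unip_iff x).1 (hK hx)
  rw [u_mem_Z]
  by_contra ha
  obtain ⟨k, hk⟩ := exists_wt H (Units.mk0 a ha)⁻¹
  rw [Units.val_inv_eq_inv_val, Units.val_mk0] at hk
  set K' := cj (H.d k) K with hK'
  have hb' : Binary K' := binary_cj.2 hb
  have hZ' : Z H ≤ K' := by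
    intro z hz
    rw [hK', mem_cj]
    exact hZ ((frame H).Zn' (H.d_mem_borel k) hz)
  have hKU : K' ≤ H.unip := by
    intro z hz
    rw [hK', mem_cj] at hz
    have h1 := H.borel_normalizes _ (H.d_mem_borel k) _ (hK hz)
    have : H.d k * ((H.d k)⁻¹ * z * H.d k) * (H.d k)⁻¹ = z := by group
    rwa [this] at h1
  have hs : H.u 1 0 ∈ K' := by
    have h1 : H.u 1 (b * θ k) ∈ K' := by
      have h2 : H.u 1 (b * θ k) = H.d k * H.u a b * (H.d k)⁻¹ := by
        rw [d_mul_U, mul_assoc, hk, mul_inv_cancel₀ ha]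
      rw [h2, hK', mem_cj]
      have : (H.d k)⁻¹ * (H.d k * H.u a b * (H.d k)⁻¹) * H.d k = H.u a b := by group
      rw [this]; exact hx
    have h2 := K'.mul_mem h1 (hZ' ((u_mem_Z H (b := b * θ k)).2 rfl))
    rwa [H.u_mul, add_zero, map_zero, mul_zero, add_zero, H.add_self] at h2
  clear_value K'
  set s := H.u 1 0 with hs'
  have hsU : s ∈ H.unip := H.u_mem_unip _ _
  have hs1 : s ≠ 1 := by
    intro h
    rw [hs', ← H.u_zero] at h
    exact one_ne_zero (H.u_inj h).1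
  have hww := H.w_mul_w
  have hwi := H.w_inv
  have hss : s * s = H.u 0 1 := by
    rw [hs', H.u_mul, map_one, H.add_self, add_zero, zero_add, mul_one]
  have hrel : H.w * (s * s) * H.w = s⁻¹ * H.w * s := by rw [hss, relation]
  obtain ⟨A, hA, h1, h2⟩ := hb'.ternary (x := s⁻¹) (y := H.w * s * H.w) (g₂ := H.w)
    (g₃ := s⁻¹ * H.w) (K'.inv_mem hs)
    (by
      have : (H.w)⁻¹ * (H.w * s * H.w) * H.w = s * (H.w * H.w) := by group
      rw [this, hww, mul_one]; exact hs)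
    (by
      have : (s⁻¹ * H.w)⁻¹ * (s⁻¹⁻¹ * (H.w * s * H.w)) * (s⁻¹ * H.w) =
        ((H.w)⁻¹ * (s * s) * H.w) * s * H.w * s⁻¹ * H.w := by group
      rw [this, hwi, hrel]
      have : s⁻¹ * H.w * s * s * H.w * s⁻¹ * H.w = s⁻¹ * (H.w * (s * s) * H.w) * s⁻¹ * H.w := by group
      rw [this, hrel]
      have : s⁻¹ * (s⁻¹ * H.w * s) * s⁻¹ * H.w = s⁻¹ * s⁻¹ * (H.w * H.w) := by group
      rw [this, hww, mul_one]
      exact K'.mul_mem (K'.inv_mem hs) (K'.inv_mem hs))
  have hA1 := H.inter_trivial A (hKU hA) (H.unip_le_borel (hKU h1))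
  rw [hA1, mul_one, inv_inv] at h2
  have h3 : (s⁻¹ * H.w)⁻¹ * s * (s⁻¹ * H.w) = (H.w)⁻¹ * s * H.w := by group
  rw [h3] at h2
  exact hs1 (H.inter_trivial s hsU (H.unip_le_borel (hKU h2)))

theorem torus_false (H : Good F θ e) {k : ↥(Cfsg.Lie.Sz F e)} (hk : k ∈ H.borel) (hk1 : k ≠ 1)
    (hkw : (H.w)⁻¹ * k * H.w ∈ H.borel) (hkZ : ∀ z ∈ Z H, k * z = z * k) : False := by
  obtain ⟨l, rfl⟩ := torus_form H hk hkw
  have h1 := hkZ (H.u 0 1) ((u_mem_Z H).2 rfl)
  have h2 : H.u 0 (1 * θ l) = H.u 0 1 := by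
    rw [← d_mul_Z, h1]; group
  have h3 := (H.u_inj h2).2
  rw [one_mul] at h3
  apply hk1
  rw [theta_eq_one H h3, H.d_one]

theorem two_false [Finite F] (H : Good F θ e) (hF : 2 < Nat.card F) {K : Subgroup ↥(Cfsg.Lie.Sz F e)}
    (hK : K ≠ ⊤) (hZ : Z H ≤ K) (hZw : ∀ z ∈ Z H, H.w * z * H.w ∈ K) : False := by
  have hww := H.w_mul_w
  have hwi := H.w_inv
  have hgen : ∀ K : Subgroup ↥(Cfsg.Lie.Sz F e), Z H ≤ K → (∀ z ∈ Z H, H.w * z * H.w ∈ K) →
      ∀ k : Fˣ, H.d k * H.w ∈ K := by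
    intro K hZ hZw k
    have hθ : θ (k : F) ≠ 0 := by
      intro h
      exact k.ne_zero ((map_eq_zero θ).1 h)
    obtain ⟨t, ht, htw, h1, h2⟩ := (frame H).exists_swap hZ hZw (z := H.u 0 1) (z' := H.u 0 (θ (k : F))⁻¹)
      ((u_mem_Z H).2 rfl) (fun h => by
        rw [← H.u_zero] at h
        exact one_ne_zero (H.u_inj h).2) ((u_mem_Z H).2 rfl) (fun h => by
        rw [← H.u_zero] at h
        exact inv_ne_zero hθ (H.u_inj h).2)
    obtain ⟨l, rfl⟩ := torus_form H ht htw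
    have h3 : H.u 0 (1 * θ ((l⁻¹ : Fˣ) : F)) = H.u 0 (θ (k : F))⁻¹ := by
      calc H.u 0 (1 * θ ((l⁻¹ : Fˣ) : F)) = H.d l⁻¹ * H.u 0 1 * (H.d l⁻¹)⁻¹ := (d_mul_Z H _ _).symm
        _ = (H.w⁻¹ * H.d l * H.w) * H.u 0 1 * (H.w⁻¹ * H.d l * H.w)⁻¹ := by rw [w_conj_d]
        _ = H.w⁻¹ * (H.d l * H.w * H.u 0 1 * (H.d l * H.w)⁻¹) * H.w := by group
        _ = H.w⁻¹ * (H.w * H.u 0 (θ (k : F))⁻¹ * H.w) * H.w := by rw [h2]
        _ = H.u 0 (θ (k : F))⁻¹ * (H.w * H.w) := by group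
        _ = _ := by rw [hww, mul_one]
    have h4 := (H.u_inj h3).2
    rw [one_mul, Units.val_inv_eq_inv_val, map_inv₀, inv_inj] at h4
    have h5 : l = k := Units.ext (θ.injective h4)
    rwa [h5] at h1
  have hw : H.w ∈ K := by
    have := hgen K hZ hZw 1
    rwa [H.d_one, one_mul] at this
  have hd : ∀ k, H.d k ∈ K := by
    intro k
    have := K.mul_mem (hgen K hZ hZw k) hw
    rwa [mul_assoc, hww, mul_one] at this
  set s := H.u 1 0 with hs'
  have hrel := relation H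
  rw [← hs'] at hrel
  set K' := cj s K with hK'
  have hZ' : Z H ≤ K' := by
    intro z hz
    rw [hK', mem_cj]
    exact hZ ((frame H).Zn' (H.u_mem_borel 1 0) hz)
  have hw' : H.w ∈ K' := by
    rw [hK', mem_cj, ← hrel]
    exact hZw _ ((u_mem_Z H).2 rfl)
  have hd' : ∀ k, H.d k ∈ K' := by
    intro k
    have := K'.mul_mem (hgen K' hZ' (fun z hz => K'.mul_mem (K'.mul_mem hw' (hZ' hz)) hw') k) hw'
    rwa [mul_assoc, hww, mul_one] at this
  -- a unipotent element outside `Z`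
  obtain ⟨k, hk⟩ : ∃ k : Fˣ, k ≠ 1 := by
    have h1 : 1 < Nat.card Fˣ := by
      rw [Nat.card_units]; omega
    have : Nontrivial Fˣ := Finite.one_lt_card_iff_nontrivial.1 h1
    exact exists_ne 1
  have h1 := hd' k
  rw [hK', mem_cj] at h1
  have h2 := K.mul_mem h1 (K.inv_mem (hd k))
  have e1 : s⁻¹ * H.d k * s * (H.d k)⁻¹ = s⁻¹ * (H.d k * s * (H.d k)⁻¹) := by group
  rw [e1, hs', d_mul_U, H.u_inv, H.u_mul] at h2
  set a := (1 : F) + 1 * k ^ 2 * (θ k)⁻¹ with ha
  have hθ : θ (k : F) ≠ 0 := by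
    intro h
    exact k.ne_zero ((map_eq_zero θ).1 h)
  have hsub : ∀ x y : F, x + y = 0 → x = y := by
    intro x y h
    linear_combination h - H.add_self y
  have ha0 : a ≠ 0 := by
    intro h
    rw [ha, one_mul] at h
    have h3 := hsub _ _ h
    have h4 : θ (k : F) = k ^ 2 := by
      field_simp at h3
      exact h3
    have h5 : (k : F) ^ 2 = θ k ^ 2 := by
      rw [← map_pow, ← h4, H.sq]
      exact h4
    have h6 : (k : F) + θ k = 0 := by
      have : ((k : F) + θ k) ^ 2 = 0 := by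
        linear_combination h5 + ((k : F) * θ k + θ k ^ 2) * H.two
      exact pow_eq_zero_iff (two_ne_zero) |>.1 this
    have h7 := hsub _ _ h6
    rw [h4] at h7
    apply hk
    apply Units.ext
    rw [Units.val_one]
    apply mul_left_cancel₀ k.ne_zero
    rw [mul_one, ← pow_two]
    exact h7.symm
  set b := 0 + 1 * θ 1 + 0 * θ ↑k + 1 * θ (1 * ↑k ^ 2 * (θ ↑k)⁻¹) with hb
  have hall : ∀ c d, H.u c d ∈ K := by
    intro c d
    by_cases hc : c = 0
    · rw [hc]
      exact hZ ((u_mem_Z H).2 rfl)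
    · obtain ⟨l, hl⟩ := exists_wt H (Units.mk0 (c / a) (div_ne_zero hc ha0))
      rw [Units.val_mk0] at hl
      have h3 := K.mul_mem (K.mul_mem (hd l) h2) (K.inv_mem (hd l))
      rw [d_mul_U] at h3
      have h4 := K.mul_mem h3 (hZ ((u_mem_Z H (b := d + b * θ l)).2 rfl))
      rw [H.u_mul] at h4
      have e2 : a * ↑l ^ 2 * (θ ↑l)⁻¹ + 0 = c := by
        rw [add_zero, mul_assoc, hl]; field_simp
      have e3 : b * θ ↑l + (d + b * θ ↑l) + a * ↑l ^ 2 * (θ ↑l)⁻¹ * θ 0 = d := by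
        rw [map_zero, mul_zero]
        linear_combination H.add_self (b * θ ↑l)
      rwa [e2, e3] at h4
  apply hK
  rw [eq_top_iff]
  intro g _
  have hB : ∀ g ∈ H.borel, g ∈ K := by
    intro g hg
    obtain ⟨a, b, k, rfl⟩ := (H.mem_borel_iff' g).mp hg
    exact K.mul_mem (hall _ _) (hd k)
  by_cases hg : g ∈ H.borel
  · exact hB g hg
  · obtain ⟨s, hs, h⟩ := H.bruhat_sz g hg
    have h1 := K.mul_mem (K.mul_mem (hB s (H.unip_le_borel hs)) hw) (hB _ h)
    rwa [mul_inv_cancel_left] at h1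

theorem mem_Z_iff [Finite F] (H : Good F θ e) (hF : 2 < Nat.card F) :
    ∀ x ∈ H.unip, x ∈ Z H ↔ ∀ y ∈ H.unip, y * x = x * y := by
  intro x hx
  obtain ⟨a, b, rfl⟩ := (H.mem_unip_iff x).1 hx
  rw [u_mem_Z]
  constructor
  · rintro rfl y hy
    obtain ⟨c, d, rfl⟩ := (H.mem_unip_iff y).1 hy
    rw [H.u_mul, H.u_mul, map_zero, mul_zero, zero_mul, add_comm c, add_comm d]
  · intro h
    by_contra ha
    -- `a θ c = c θ a` for all `c`
    have h1 : ∀ c, c * θ a = a * θ c := by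
      intro c
      have h2 := h (H.u c 0) (H.u_mem_unip _ _)
      rw [H.u_mul, H.u_mul] at h2
      have h3 := (H.u_inj h2).2
      linear_combination h3
    have h4 : θ a = a := by
      have := h1 1
      rwa [one_mul, map_one, mul_one] at this
    have h5 : ∀ c, θ c = c := by
      intro c
      have := h1 c
      rw [h4, mul_comm] at this
      exact (mul_left_cancel₀ ha this).symm
    have h6 : ∀ c : F, c = c ^ 2 := by
      intro c
      rw [← H.sq, h5, h5]
    have h7 : ∀ k : Fˣ, k = 1 := by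
      intro k
      apply Units.ext
      rw [Units.val_one]
      apply mul_left_cancel₀ k.ne_zero
      rw [mul_one, ← pow_two]
      exact (h6 _).symm
    have h8 : Nat.card Fˣ ≤ 1 := by
      rw [Finite.card_le_one_iff_subsingleton]
      exact ⟨fun x y => by rw [h7 x, h7 y]⟩
    rw [Nat.card_units] at h8
    omega

/-- **Binary actions of the Suzuki groups on the cosets of subgroups of even order.** -/
theorem binary_iff [Finite F] (H : Good F θ e) (hF : 2 < Nat.card F)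
    {K : Subgroup ↥(Cfsg.Lie.Sz F e)} (hK : K ≠ ⊤) (heven : Even (Nat.card K)) :
    Binary K ↔ ∃ P : Sylow 2 ↥(Cfsg.Lie.Sz F e),
      K = (Subgroup.center (P : Subgroup ↥(Cfsg.Lie.Sz F e))).map
        (P : Subgroup ↥(Cfsg.Lie.Sz F e)).subtype := by
  have hf := frame H
  have hone : ∀ s t : ↥(Cfsg.Lie.Sz F e), orderOf s = 2 → orderOf t = 2 → IsConj s t := by
    apply hf.one_class (Z_ne_bot H)
    rintro _ ⟨b, rfl⟩ _ ⟨c, rfl⟩ h1 h2
    have hb : b ≠ 0 := by
      rintro rfl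
      exact h1 H.u_zero
    have hc : c ≠ 0 := by
      rintro rfl
      exact h2 H.u_zero
    obtain ⟨k, hk⟩ := exists_theta (θ := θ) (Units.mk0 (c / b) (div_ne_zero hc hb))
    rw [Units.val_mk0] at hk
    refine isConj_iff.2 ⟨H.d k, ?_⟩
    rw [d_mul_Z, hk]
    have : b * (c / b) = c := by field_simp
    rw [this]
  rw [hf.center_iff (Z_ne_bot H) (mem_Z_iff H hF)]
  constructor
  · intro hb
    exact hf.eq_cj (Z_ne_bot H) hb hone heven hK
      (fun K hb hZ hKU => unip_eq H hb hZ hKU)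
      (fun K hb hZ hHB k hk hk1 hkw hkZ => torus_false H (hHB hk) hk1 hkw hkZ)
      (fun K hb hK hZ hZw => two_false H hF hK hZ hZw)
  · rintro ⟨g, rfl⟩
    exact hf.binary_cj_Z g

end SzG

/-- **Binary actions of groups isomorphic to `Sz(2^(2m+1))`, subgroups of even order.** -/
theorem sz_binary_iff {G : Type*} [Group G] [Finite G] {F : Type*} [Field F] [Fintype F] {m : ℕ}
    (hm : 1 ≤ m) (hF : Fintype.card F = 2 ^ (2 * m + 1))
    (e : Nonempty (G ≃* Cfsg.Lie.Sz F (2 ^ (m + 1))))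
    {H : Subgroup G} (hH : H ≠ ⊤) (heven : Even (Nat.card H)) :
    Binary H ↔ ∃ P : Sylow 2 G, H = (Subgroup.center (P : Subgroup G)).map (P : Subgroup G).subtype := by
  obtain ⟨e⟩ := e
  rw [← sylow_center_congr e, ← binary_congr e]
  apply SzG.binary_iff (good hF)
  · rw [Nat.card_eq_fintype_card, hF]
    calc 2 < 2 ^ 3 := by norm_num
      _ ≤ 2 ^ (2 * m + 1) := Nat.pow_le_pow_right (by norm_num) (by omega)
  · exact map_ne_top e hH
  · rwa [card_map_equiv]

end Cfsg.Agent.H896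
end
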